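import Cfsg.Agent.Lib.BlockLocal.WeakOrth
import Cfsg.Agent.Lib.CharDegreesTheory.BlockDegrees
import Cfsg.Agent.Lib.Correspondences.PrincipalBlock
import Cfsg.Agent.Lib.CharTheory.Burnside
import Cfsg.Agent.Lib.Balance.SigFamily
import Cfsg.Agent.Lib.Cores.MinimalNormal

/-!
Kazarin's theorem: an element whose class has prime power size generates a solvable normal
subgroup. The proof uses weak block orthogonality in the principal block for a third prime.
-/

set_option autoImplicit false
set_option linter.style.haveILetI false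

namespace CfsgLib.Frobenius

open Module Cfsg CfsgLib.CharTheory CfsgLib.Blocks

universe u

/-- The block-theoretic core: an element of class size a power of `p` centralizes a minimal
normal subgroup that it generates the group with, if that subgroup has a prime different from
`p` and from those of the element. -/
theorem commute_of_minimal_of_block {G : Type u} [Group G] [Finite G] (N : Subgroup G) [N.Normal]
    (hmin : ∀ M : Subgroup G, M.Normal → M ≤ N → M = ⊥ ∨ M = N)
    {y : G} (hgen : N ⊔ Subgroup.zpowers y = ⊤) {p k r : ℕ} (hp : p.Prime) (hr : r.Prime)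
    (hrp : r ≠ p) (hry : ¬ r ∣ orderOf y) (hrN : r ∣ Nat.card N)
    (hclass : (Subgroup.centralizer ({y} : Set G)).index = p ^ k) :
    ∀ n ∈ N, Commute n y := by
  classical
  by_contra hcon
  push Not at hcon
  obtain ⟨n₀, hn₀, hny⟩ := hcon
  haveI := Fintype.ofFinite G
  haveI := Fintype.ofFinite (IrrCharacter G)
  haveI : Fact r.Prime := ⟨hr⟩
  obtain ⟨M, hM⟩ := CfsgLib.CharDegreesTheory.exists_isPModular hr
  haveI := isPrime_of_isPModular hM
  obtain ⟨u, hu⟩ := exists_prime_orderOf_dvd_card' (G := N) r hrN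
  have huG : orderOf (u : G) = r := by rw [Subgroup.orderOf_coe, hu]
  have h1r : ¬ r ∣ orderOf (1 : G) := by rw [orderOf_one]; exact hr.not_dvd_one
  have hsum := CfsgLib.BlockLocal.weakOrth_mul hM (principalBlock M G)
    ⟨trivIrr G, rfl⟩ 1 (u : G) h1r huG.symm.dvd
  rw [finsum_mem_eq_finite_toFinset_sum _ (Set.toFinite (principalBlock M G))] at hsum
  have htriv : trivIrr G ∈ principalBlock M G := fun g => by
    show MemLocalIdeal M (centralChar (fun _ : G => (1 : ℂ)) g -
      centralChar (fun _ : G => (1 : ℂ)) g)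
    rw [sub_self]; exact memLocalIdeal_zero
  rw [← Finset.add_sum_erase _ _ ((Set.Finite.mem_toFinset _).2 htriv)] at hsum
  simp only [trivIrr_apply, one_mul] at hsum
  have hpk : ¬ MemLocalIdeal M ((p ^ k : ℕ) : ℂ) := fun h =>
    hrp ((Nat.prime_dvd_prime_iff_eq hr hp).1
      (hr.dvd_of_dvd_pow ((memLocalIdeal_natCast_iff hM _).1 h)))
  have hall : ∀ χ ∈ (Set.toFinite (principalBlock M G)).toFinset.erase (trivIrr G),
      IsIntegral ℤ ((χ : G → ℂ) 1 * (χ : G → ℂ) (u : G) / (p : ℂ)) := by
    rintro ⟨χ, d, ρ, hρ, rfl⟩ hmem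
    obtain ⟨hne, hB⟩ := Finset.mem_erase.1 hmem
    rw [Set.Finite.mem_toFinset] at hB
    simp only [ρ.char_one]
    by_cases hd : p ∣ finrank ℂ (Fin d → ℂ)
    · obtain ⟨m, hm⟩ := hd
      have hp0 : (p : ℂ) ≠ 0 := by exact_mod_cast hp.ne_zero
      rw [hm]
      push_cast
      rw [mul_assoc, mul_div_cancel_left₀ _ hp0]
      exact (isIntegral_algebraMap (x := (m : ℤ))).mul (isIntegral_character ρ _)
    exfalso
    have hcop : Nat.Coprime (finrank ℂ (Fin d → ℂ))
        (Subgroup.centralizer ({y} : Set G)).index := by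
      rw [hclass]
      exact Nat.Coprime.pow_right k (Nat.coprime_comm.1 (hp.coprime_iff_not_dvd.2 hd))
    have hpos : (finrank ℂ (Fin d → ℂ) : ℂ) ≠ 0 := by
      exact_mod_cast (finrank_pos_of_isIrreducible ρ).ne'
    have hy : MemLocalIdeal M (centralChar (fun _ : G => (1 : ℂ)) y -
        centralChar ρ.character y) := hB y
    rw [CfsgLib.Correspondences.centralChar_one_eq, centralChar, hclass, ρ.char_one] at hy
    rcases character_eq_zero_or_norm_of_coprime ρ y hcop with h0 | h1
    · rw [h0, mul_zero, zero_div, sub_zero] at hy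
      exact hpk hy
    obtain ⟨ω, hω⟩ := (norm_character_eq_iff ρ y).1 h1
    have hker : N ≤ ρ.ker := by
      have hmem : n₀ * y * (y * n₀)⁻¹ ∈ ρ.ker ⊓ N := by
        refine ⟨?_, ?_⟩
        · have he : ρ (n₀ * y) = ρ (y * n₀) := by
            rw [map_mul, map_mul, hω, mul_smul_comm, smul_mul_assoc]; rfl
          show ρ (n₀ * y * (y * n₀)⁻¹) = 1
          rw [map_mul, he, ← map_mul, mul_inv_cancel, map_one]
        · have e : n₀ * y * (y * n₀)⁻¹ = n₀ * (y * n₀⁻¹ * y⁻¹) := by group
          rw [e]
          exact N.mul_mem hn₀ ((inferInstance : N.Normal).conj_mem _ (N.inv_mem hn₀) y)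
      rcases hmin (ρ.ker ⊓ N) inferInstance inf_le_right with h | h
      · rw [h, Subgroup.mem_bot, mul_inv_eq_one] at hmem
        exact absurd hmem hny
      · exact h ▸ inf_le_left
    have hchar : ρ.character y = (finrank ℂ (Fin d → ℂ) : ℂ) * ω := by
      rw [Representation.character, hω, map_smul, LinearMap.trace_id, smul_eq_mul, mul_comm]
    have hωpow : ω ^ orderOf y = 1 := by
      have h2 : ρ (y ^ orderOf y) = (ω ^ orderOf y) • (1 : Module.End ℂ (Fin d → ℂ)) := by
        rw [map_pow, hω]
        show (ω • (1 : Module.End ℂ (Fin d → ℂ))) ^ orderOf y = _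
        rw [smul_pow, one_pow]
      rw [pow_orderOf_eq_one, map_one] at h2
      have h3 := congrArg (LinearMap.trace ℂ (Fin d → ℂ)) h2
      rw [map_smul, LinearMap.trace_one, smul_eq_mul] at h3
      exact mul_right_cancel₀ hpos (by rw [one_mul]; exact h3.symm)
    have hω1 : ω = 1 := by
      refine eq_one_of_sub_one_mem hM hry hωpow ?_
      rw [hchar] at hy
      have e : ((p ^ k : ℕ) : ℂ) - ((p ^ k : ℕ) : ℂ) * ((finrank ℂ (Fin d → ℂ) : ℂ) * ω) /
          (finrank ℂ (Fin d → ℂ) : ℂ) = ((p ^ k : ℕ) : ℂ) * (1 - ω) := by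
        field_simp
      rw [e] at hy
      have hωR : MemLocalRing M (1 - ω) := memLocalRing_of_isIntegral
        (isIntegral_one.sub (isIntegral_of_pow_eq_one (orderOf_pos y).ne' hωpow))
      rcases (memLocalIdeal_mul_iff (memLocalRing_natCast _) hωR).1 hy with h | h
      · exact absurd h hpk
      · exact memLocalIdeal_sub_comm.1 h
    have htop : (ρ.ker : Subgroup G) = ⊤ := by
      rw [eq_top_iff, ← hgen, sup_le_iff, Subgroup.zpowers_le]
      exact ⟨hker, MonoidHom.mem_ker.2 (by rw [hω, hω1, one_smul]; rfl)⟩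
    have hconst : ρ.character = fun _ => (finrank ℂ (Fin d → ℂ) : ℂ) := funext fun g => by
      have : ρ g = 1 := MonoidHom.mem_ker.1 (htop ▸ Subgroup.mem_top g)
      rw [Representation.character, this, LinearMap.trace_one]
    refine hne (Subtype.ext ?_)
    by_contra hne'
    have h0 := classInner_eq_zero_of_ne (isIrrCharacter_character ρ) (trivIrr G).2 hne'
    rw [hconst] at h0
    simp [classInner, trivIrr] at h0 hpos
    omega
  have h1 : IsIntegral ℤ ((-1 : ℂ) / p) := by
    rw [← eq_neg_of_add_eq_zero_right hsum, Finset.sum_div]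
    exact IsIntegral.sum _ hall
  have h2 : p ∣ 1 := CfsgLib.CharTheory.dvd_of_isIntegral_natCast_div hp.ne_zero (by
    have := h1.neg; rw [neg_div, neg_neg] at this; simpa using this)
  exact hp.one_lt.ne' (Nat.dvd_one.1 h2)

/-- For a normal subgroup `N` and `B ≤ A`, the index of `A` in `N ⊔ B` is its index in `N`. -/
theorem relIndex_normal_sup_eq {G : Type u} [Group G] (N : Subgroup G) [N.Normal]
    {A B : Subgroup G} (hB : B ≤ A) : A.relIndex (N ⊔ B) = A.relIndex N := by
  let i : ↥N →* ↥(N ⊔ B) := Subgroup.inclusion le_sup_left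
  let f : ↥N ⧸ A.subgroupOf N → ↥(N ⊔ B) ⧸ A.subgroupOf (N ⊔ B) :=
    Quotient.map' i fun a b h => by
      rw [QuotientGroup.leftRel_apply] at h ⊢
      exact h
  have hf : Function.Bijective f := by
    constructor
    · rintro ⟨a⟩ ⟨b⟩ h
      have h' : (QuotientGroup.mk (i a) : ↥(N ⊔ B) ⧸ A.subgroupOf (N ⊔ B)) =
          QuotientGroup.mk (i b) := h
      rw [QuotientGroup.eq] at h'
      exact QuotientGroup.eq.2 h'
    · rintro ⟨⟨g, hg⟩⟩
      obtain ⟨n, hn, b, hb, rfl⟩ := Subgroup.mem_sup_of_normal_left.1 hg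
      refine ⟨QuotientGroup.mk ⟨n, hn⟩, ?_⟩
      show (QuotientGroup.mk (i ⟨n, hn⟩) : ↥(N ⊔ B) ⧸ A.subgroupOf (N ⊔ B)) =
        QuotientGroup.mk _
      rw [QuotientGroup.eq]
      show n⁻¹ * (n * b) ∈ A
      rw [inv_mul_cancel_left]
      exact hB hb
  exact (Nat.card_congr (Equiv.ofBijective f hf)).symm

/-- A subgroup of `N` normalized by `N` which is solvable lies in a solvable subgroup of `N`
normal in the whole group. -/
theorem eq_bot_of_normalized_solvable {G : Type u} [Group G] [Finite G] (N : Subgroup G)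
    [hN : N.Normal] (hmin : ∀ M : Subgroup G, M.Normal → M ≤ N → M = ⊥ ∨ M = N)
    (hns : ¬ Group.IsSolvable N) {K : Subgroup G} (hKN : K ≤ N)
    (hnK : N ≤ Subgroup.normalizer (K : Set G)) (hK : Group.IsSolvable K) : K = ⊥ := by
  classical
  let S : Set (Subgroup G) :=
    {X | X ≤ N ∧ N ≤ Subgroup.normalizer (X : Set G) ∧ Group.IsSolvable X}
  obtain ⟨R, hKR, hR⟩ := (Set.toFinite S).exists_le_maximal (a := K) ⟨hKN, hnK, hK⟩
  obtain ⟨hRN, hnR, hRs⟩ := hR.1
  have habsorb : ∀ X ∈ S, X ≤ R := by
    intro X hX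
    haveI := hRs
    haveI := hX.2.2
    have hmem : R ⊔ X ∈ S := ⟨sup_le hRN hX.1, fun g hg => by
      refine CfsgLib.CoprimeAction.mem_normalizer_of_conj_mem ?_
      intro z hz
      have hmap : (R ⊔ X).map (MulAut.conj g).toMonoidHom ≤ R ⊔ X := by
        rw [Subgroup.map_sup]
        refine sup_le_sup ?_ ?_
        · rintro _ ⟨a, ha, rfl⟩; exact CfsgLib.CoprimeAction.conj_mem (hnR hg) ha
        · rintro _ ⟨a, ha, rfl⟩; exact CfsgLib.CoprimeAction.conj_mem (hX.2.1 hg) ha
      exact hmap ⟨z, hz, rfl⟩, CfsgLib.Balance.isSolvable_sup (hX.1.trans hnR)⟩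
    exact le_sup_right.trans (hR.2 hmem le_sup_left)
  have hRnormal : R.Normal := ⟨fun a ha g => by
    have hconj : R.map (MulAut.conj g).toMonoidHom ∈ S := by
      refine ⟨?_, ?_, ?_⟩
      · rintro _ ⟨b, hb, rfl⟩
        exact hN.conj_mem b (hRN hb) g
      · intro m hm
        refine CfsgLib.CoprimeAction.mem_normalizer_of_conj_mem ?_
        rintro _ ⟨b, hb, rfl⟩
        refine ⟨(g⁻¹ * m * g) * b * (g⁻¹ * m * g)⁻¹, ?_, ?_⟩
        · refine CfsgLib.CoprimeAction.conj_mem (hnR ?_) hb
          simpa using hN.conj_mem m hm g⁻¹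
        · simp [mul_assoc]
      · haveI := hRs
        exact Group.isSolvable_of_surjective
          (f := ((MulAut.conj g).toMonoidHom).subgroupMap R)
          (MonoidHom.subgroupMap_surjective _ _)
    exact habsorb _ hconj ⟨a, ha, rfl⟩⟩
  rcases hmin R hRnormal hRN with h | h
  · exact le_bot_iff.1 (h ▸ hKR)
  · exact absurd (h ▸ hRs) hns

/-- A group that is not solvable has order divisible by a prime outside any two given ones. -/
theorem exists_prime_dvd_of_not_isSolvable {H : Type u} [Group H] [Finite H]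
    (hns : ¬ Group.IsSolvable H) {p q : ℕ} (hp : p.Prime) (hq : q.Prime) :
    ∃ r : ℕ, r.Prime ∧ r ≠ p ∧ r ≠ q ∧ r ∣ Nat.card H := by
  by_contra hcon
  push Not at hcon
  refine hns (CfsgLib.CharTheory.isSolvable_of_card_dvd_pow_mul_pow p q
    ((Nat.card H).factorization p) (Nat.card H) hp hq ?_)
  have hpos := Nat.card_pos (α := H)
  conv_lhs => rw [← Nat.ordProj_mul_ordCompl_eq_self (Nat.card H) p]
  refine mul_dvd_mul_left _ ?_
  set m := Nat.card H / p ^ (Nat.card H).factorization p
  have hm : m ≠ 0 := (Nat.ordCompl_pos p hpos.ne').ne'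
  have hmq : ∀ {d : ℕ}, d.Prime → d ∣ m → d = q := by
    intro d hd hdm
    by_contra hdq
    refine hcon d hd ?_ hdq (hdm.trans (Nat.ordCompl_dvd _ _))
    rintro rfl
    exact Nat.not_dvd_ordCompl hd hpos.ne' hdm
  have hm' := Nat.eq_prime_pow_of_unique_prime_dvd hm hmq
  rw [hm']
  refine pow_dvd_pow q ((Nat.lt_pow_self hq.one_lt).le.trans ?_)
  rw [← hm']
  exact Nat.le_of_dvd hpos (Nat.ordCompl_dvd (Nat.card H) p)

/-- Kazarin's theorem for an element of prime power order, given it for smaller groups. -/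
theorem isSolvable_normalClosure_step {G : Type u} [Group G] [Finite G] {y : G} {p q k e : ℕ}
    (hp : p.Prime) (hq : q.Prime) (ho : orderOf y = q ^ e)
    (hclass : (Subgroup.centralizer ({y} : Set G)).index = p ^ k)
    (ih : ∀ (H : Type u) [Group H] [Finite H], Nat.card H < Nat.card G → ∀ (z : H) (j : ℕ),
      (Subgroup.centralizer ({z} : Set H)).index = p ^ j →
        Group.IsSolvable (Subgroup.normalClosure ({z} : Set H))) :
    Group.IsSolvable (Subgroup.normalClosure ({y} : Set G)) := by
  classical
  rcases subsingleton_or_nontrivial G with _ | _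
  · infer_instance
  obtain ⟨N, hN, -, hNne, hmin⟩ :=
    CfsgLib.Cores.exists_minimal_normal_le (K := (⊤ : Subgroup G)) top_ne_bot
  haveI := hN
  set H := Subgroup.normalClosure ({y} : Set G) with hH
  haveI hsolQ : Group.IsSolvable (H.map (QuotientGroup.mk' N)) := by
    have hlt : Nat.card (G ⧸ N) < Nat.card G := by
      rw [Subgroup.card_eq_card_quotient_mul_card_subgroup N]
      exact lt_mul_of_one_lt_right Nat.card_pos
        ((Subgroup.one_lt_card_iff_ne_bot N).2 hNne)
    have hle : (Subgroup.centralizer ({y} : Set G)).map (QuotientGroup.mk' N) ≤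
        Subgroup.centralizer ({(y : G ⧸ N)} : Set (G ⧸ N)) := by
      rintro _ ⟨c, hc, rfl⟩
      have hc' := congrArg (QuotientGroup.mk' N) (Subgroup.mem_centralizer_singleton_iff.1 hc)
      rw [Subgroup.mem_centralizer_singleton_iff]
      simpa using hc'
    obtain ⟨j, -, hj⟩ := (Nat.dvd_prime_pow hp).1 (hclass ▸ (Subgroup.index_dvd_of_le hle).trans
      (Subgroup.index_map_dvd _ (QuotientGroup.mk'_surjective N)))
    have h := ih _ hlt (y : G ⧸ N) j hj
    rw [hH, Subgroup.map_normalClosure _ _ (QuotientGroup.mk'_surjective N), Set.image_singleton]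
    exact h
  have key : (∀ z ∈ H, z ∈ N → z = 1) ∨ Group.IsSolvable N := by
    by_cases hns : Group.IsSolvable N
    · exact Or.inr hns
    left
    have hcomm : ∀ n ∈ N, Commute n y := by
      set L := N ⊔ Subgroup.zpowers y with hL
      rcases eq_or_ne L ⊤ with htop | htop
      · obtain ⟨r, hr, hrp, hrq, hrN⟩ := exists_prime_dvd_of_not_isSolvable hns hp hq
        refine commute_of_minimal_of_block N hmin htop hp hr hrp ?_ hrN hclass
        rw [ho]
        exact fun h => hrq ((Nat.prime_dvd_prime_iff_eq hr hq).1 (hr.dvd_of_dvd_pow h))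
      set C := Subgroup.centralizer ({y} : Set G) with hC
      have hyC : Subgroup.zpowers y ≤ C := by
        rw [Subgroup.zpowers_le, hC, Subgroup.mem_centralizer_singleton_iff]
      have hyL : y ∈ L := le_sup_right (a := N) (Subgroup.mem_zpowers y)
      have hCL : C.subgroupOf L = Subgroup.centralizer ({⟨y, hyL⟩} : Set L) := by
        ext ⟨g, hg⟩
        simp [Subgroup.mem_subgroupOf, hC, Subgroup.mem_centralizer_singleton_iff, Subtype.ext_iff]
      have hdiv : C.relIndex L ∣ p ^ k := by
        rw [hL, relIndex_normal_sup_eq N hyC, ← relIndex_normal_sup_eq N (le_refl C), ← hclass,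
          ← Subgroup.relIndex_mul_index (le_sup_right : C ≤ N ⊔ C)]
        exact dvd_mul_right _ _
      obtain ⟨j, -, hj⟩ := (Nat.dvd_prime_pow hp).1 hdiv
      rw [Subgroup.relIndex, hCL] at hj
      have hlt : Nat.card L < Nat.card G := lt_of_le_of_ne (Subgroup.card_le_card_group _)
        fun h => htop (Subgroup.card_eq_iff_eq_top L |>.1 h)
      haveI hsol := ih _ hlt (⟨y, hyL⟩ : L) j hj
      set T : Subgroup L := Subgroup.normalClosure ({⟨y, hyL⟩} : Set L) with hT
      set K : Subgroup G := T.map L.subtype ⊓ N with hK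
      have hKs : Group.IsSolvable K := by
        haveI : Group.IsSolvable (T.map L.subtype) := Group.isSolvable_of_surjective
          (f := L.subtype.subgroupMap T) (MonoidHom.subgroupMap_surjective _ _)
        exact Group.isSolvable_of_isSolvable_injective
          (f := Subgroup.inclusion (inf_le_left : K ≤ T.map L.subtype))
          (Subgroup.inclusion_injective _)
      have hnK : N ≤ Subgroup.normalizer (K : Set G) := by
        intro n hn
        refine CfsgLib.CoprimeAction.mem_normalizer_of_conj_mem ?_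
        rintro _ ⟨⟨z, hz, rfl⟩, hzN⟩
        refine ⟨⟨(⟨n, le_sup_left (b := Subgroup.zpowers y) hn⟩ : L) * z *
          (⟨n, le_sup_left (b := Subgroup.zpowers y) hn⟩ : L)⁻¹,
          (Subgroup.normalClosure_normal).conj_mem z hz _, rfl⟩, hN.conj_mem _ hzN n⟩
      have hK0 : K = ⊥ := eq_bot_of_normalized_solvable N hmin hns inf_le_right hnK hKs
      intro n hn
      have hmem : n * y * n⁻¹ * y⁻¹ ∈ K := by
        refine ⟨?_, ?_⟩
        · let m : L := ⟨n, le_sup_left (b := Subgroup.zpowers y) hn⟩
          let w : L := ⟨y, hyL⟩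
          have hw : w ∈ T := Subgroup.subset_normalClosure (Set.mem_singleton _)
          exact ⟨m * w * m⁻¹ * w⁻¹,
            T.mul_mem ((Subgroup.normalClosure_normal).conj_mem w hw m) (T.inv_mem hw), rfl⟩
        · have e' : n * y * n⁻¹ * y⁻¹ = n * (y * n⁻¹ * y⁻¹) := by group
          rw [e']
          exact N.mul_mem hn (hN.conj_mem _ (N.inv_mem hn) y)
      rw [hK0, Subgroup.mem_bot, mul_inv_eq_one, mul_inv_eq_iff_eq_mul] at hmem
      exact hmem
    have hHC : H ≤ Subgroup.centralizer (N : Set G) := by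
      haveI : (Subgroup.centralizer (N : Set G)).Normal := inferInstance
      refine Subgroup.normalClosure_le_normal (Set.singleton_subset_iff.2 ?_)
      exact Subgroup.mem_centralizer_iff.2 fun n hn => hcomm n hn
    intro z hzH hzN
    rcases hmin (Subgroup.centralizer (N : Set G) ⊓ N) inferInstance inf_le_right with h | h
    · exact (Subgroup.eq_bot_iff_forall _).1 h z ⟨hHC hzH, hzN⟩
    · refine absurd (Group.isSolvable_of_comm fun a b : N => Subtype.ext ?_) hns
      have ha : (a : G) ∈ Subgroup.centralizer (N : Set G) :=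
        (h.symm ▸ a.2 : (a : G) ∈ Subgroup.centralizer (N : Set G) ⊓ N).1
      exact (Subgroup.mem_centralizer_iff.1 ha _ b.2).symm
  rcases key with hinj | hsN
  · refine Group.isSolvable_of_isSolvable_injective (f := (QuotientGroup.mk' N).subgroupMap H)
      ((injective_iff_map_eq_one _).2 fun z hz => ?_)
    exact Subtype.ext (hinj _ z.2 ((QuotientGroup.eq_one_iff _).1 (congrArg Subtype.val hz)))
  · haveI := hsN
    haveI : Group.IsSolvable ↥(N ⊓ H) := Group.isSolvable_of_isSolvable_injective
      (f := Subgroup.inclusion (inf_le_left : N ⊓ H ≤ N)) (Subgroup.inclusion_injective _)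
    refine Group.isSolvable_of_ker_le_range (Subgroup.inclusion (inf_le_right : N ⊓ H ≤ H))
      ((QuotientGroup.mk' N).subgroupMap H) fun z hz => ?_
    exact ⟨⟨z, (QuotientGroup.eq_one_iff _).1 (congrArg Subtype.val hz), z.2⟩, rfl⟩

/-- Kazarin: the normal closure of an element of prime power class size is solvable. -/
theorem isSolvable_normalClosure_of_index_centralizer_prime_pow {G : Type u} [Group G] [Finite G]
    (x : G) {p k : ℕ} (hp : p.Prime)
    (hclass : (Subgroup.centralizer ({x} : Set G)).index = p ^ k) :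
    Group.IsSolvable (Subgroup.normalClosure ({x} : Set G)) := by
  induction hn : Nat.card G using Nat.strong_induction_on generalizing G k with
  | _ n ih =>
    subst hn
    induction ho : orderOf x using Nat.strong_induction_on generalizing x k with
    | _ m iho =>
      subst ho
      by_cases hpp : ∃ q e : ℕ, q.Prime ∧ orderOf x = q ^ e
      · obtain ⟨q, e, hq, he⟩ := hpp
        exact isSolvable_normalClosure_step hp hq he hclass
          fun H _ _ hlt z j hj => ih _ hlt z hj rfl
      have h1 : orderOf x ≠ 1 := fun h => hpp ⟨2, 0, Nat.prime_two, by rw [h, pow_zero]⟩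
      obtain ⟨q, hq, hqd⟩ := Nat.exists_prime_and_dvd h1
      set a := q ^ (orderOf x).factorization q with ha
      set b := orderOf x / a with hb
      have hab : a * b = orderOf x := Nat.ordProj_mul_ordCompl_eq_self _ _
      have ha1 : 1 < a := Nat.one_lt_pow
        (hq.factorization_pos_of_dvd (orderOf_pos x).ne' hqd).ne' hq.one_lt
      have hb1 : 1 < b := by
        have hb0 : 0 < b := Nat.ordCompl_pos q (orderOf_pos x).ne'
        by_contra hlt
        have hb' : b = 1 := by omega
        exact hpp ⟨q, _, hq, by rw [← hab, hb', mul_one]⟩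
      have hcop : Nat.Coprime a b :=
        (Nat.coprime_ordCompl hq (orderOf_pos x).ne').pow_left _
      have hstep : ∀ s : ℕ, orderOf (x ^ s) < orderOf x →
          Group.IsSolvable (Subgroup.normalClosure ({x ^ s} : Set G)) := by
        intro s hs
        have hle : Subgroup.centralizer ({x} : Set G) ≤ Subgroup.centralizer ({x ^ s} : Set G) := by
          intro c hc
          rw [Subgroup.mem_centralizer_singleton_iff] at hc ⊢
          exact (Commute.pow_right hc s).eq
        obtain ⟨j, -, hj⟩ :=
          (Nat.dvd_prime_pow hp).1 (hclass ▸ Subgroup.index_dvd_of_le hle)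
        exact iho _ hs (x ^ s) hj rfl
      haveI := hstep a (by
        rw [orderOf_pow_of_dvd (by omega) (hab ▸ dvd_mul_right a b)]
        exact Nat.div_lt_self (orderOf_pos x) ha1)
      haveI := hstep b (by
        rw [orderOf_pow_of_dvd (by omega) (hab ▸ dvd_mul_left b a)]
        exact Nat.div_lt_self (orderOf_pos x) hb1)
      set A := Subgroup.normalClosure ({x ^ a} : Set G)
      set B := Subgroup.normalClosure ({x ^ b} : Set G)
      haveI : Group.IsSolvable ↥(A ⊔ B) := CfsgLib.Balance.isSolvable_sup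
        (by rw [Subgroup.normalizer_eq_top_iff.2 Subgroup.normalClosure_normal]; exact le_top)
      have hxmem : x ∈ A ⊔ B := by
        have hbez := Nat.gcd_eq_gcd_ab a b
        rw [hcop.gcd_eq_one, Nat.cast_one] at hbez
        rw [← zpow_one x, hbez, zpow_add, zpow_mul, zpow_mul, zpow_natCast, zpow_natCast]
        exact Subgroup.mul_mem_sup
          (Subgroup.zpow_mem _ (Subgroup.subset_normalClosure (Set.mem_singleton _)) _)
          (Subgroup.zpow_mem _ (Subgroup.subset_normalClosure (Set.mem_singleton _)) _)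
      exact Group.isSolvable_of_isSolvable_injective (f := Subgroup.inclusion
        (Subgroup.normalClosure_le_normal (Set.singleton_subset_iff.2 hxmem)))
        (Subgroup.inclusion_injective _)

end CfsgLib.Frobenius
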