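import Cfsg.Agent.Lib.NormalPComplement.Basic
import Cfsg.Agent.Lib.Subnormal.Cover
import Cfsg.Agent.Lib.PGroups.Frattini
import Mathlib.GroupTheory.Transfer

/-!
If every element is centralized by a subgroup of index at most `p` of a Sylow `p`-subgroup and
`p` is the smallest prime divisor of the group order, the group has a normal `p`-complement.
-/

set_option autoImplicit false
set_option linter.style.haveILetI false

namespace CfsgLib.Frobenius

open Cfsg CfsgLib.NormalPComplement
open scoped Pointwise

universe u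

/-- A group with a Sylow subgroup central in its normalizer has a normal `p`-complement. -/
theorem hasNormalPComplement_of_burnside {G : Type u} [Group G] [Finite G] {p : ℕ}
    [Fact p.Prime] (P : Sylow p G)
    (hP : Subgroup.normalizer ((P : Subgroup G) : Set G) ≤
      Subgroup.centralizer ((P : Subgroup G) : Set G)) : HasNormalPComplement p G :=
  ⟨P, _, inferInstance, MonoidHom.ker_transferSylow_isComplement' P hP⟩

/-- Normal complements lift through central `p`-subgroups. -/
theorem hasNormalPComplement_of_central_quotient {G : Type u} [Group G] [Finite G] {p : ℕ}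
    [Fact p.Prime] (Z : Subgroup G) [Z.Normal] (hZ : Z ≤ Subgroup.center G) (hZp : IsPGroup p Z)
    (h : HasNormalPComplement p (G ⧸ Z)) : HasNormalPComplement p G := by
  classical
  let K := pPrimeCore p (G ⧸ Z)
  let M := K.comap (QuotientGroup.mk' Z)
  have hZM : Z ≤ M := by
    intro z hz
    show (z : G ⧸ Z) ∈ K
    rw [(QuotientGroup.eq_one_iff z).2 hz]
    exact K.one_mem
  have hidx : ¬ p ∣ Z.relIndex M := by
    have h2 : Nat.card M = Nat.card Z * Nat.card K := by
      have e : Z = (⊥ : Subgroup (G ⧸ Z)).comap (QuotientGroup.mk' Z) := by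
        rw [MonoidHom.comap_bot, QuotientGroup.ker_mk']
      have h3 := Subgroup.relIndex_comap (H := (⊥ : Subgroup (G ⧸ Z))) (QuotientGroup.mk' Z) M
      rw [← e, Subgroup.map_comap_eq_self_of_surjective (QuotientGroup.mk'_surjective Z),
        Subgroup.relIndex_bot_left] at h3
      have h4 := Subgroup.card_mul_index (Z.subgroupOf M)
      rw [← Subgroup.relIndex, h3, Nat.card_congr (Subgroup.subgroupOfEquivOfLe hZM).toEquiv] at h4
      exact h4.symm
    have h5 := Subgroup.card_mul_index (Z.subgroupOf M)
    rw [← Subgroup.relIndex, Nat.card_congr (Subgroup.subgroupOfEquivOfLe hZM).toEquiv, h2] at h5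
    rw [Nat.eq_of_mul_eq_mul_left Nat.card_pos h5]
    exact Cores.not_dvd_card_pPrimeCore
  obtain ⟨T⟩ : Nonempty (Sylow p M) := inferInstance
  have hTZ : (T : Subgroup M) = Z.subgroupOf M := by
    have hp' : IsPGroup p (Z.subgroupOf M) := hZp.comap_subtype
    have hS := hp'.toSylow (by exact hidx)
    have hn : (hp'.toSylow hidx : Subgroup M).Normal := by
      show (Z.subgroupOf M).Normal
      infer_instance
    haveI := Sylow.unique_of_normal _ hn
    rw [Subsingleton.elim T (hp'.toSylow hidx)]
    rfl
  have hM : HasNormalPComplement p M := by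
    refine hasNormalPComplement_of_burnside T fun m _ => ?_
    refine Subgroup.mem_centralizer_iff.2 fun t ht => Subtype.ext ?_
    rw [SetLike.mem_coe, hTZ, Subgroup.mem_subgroupOf] at ht
    exact (Subgroup.mem_center_iff.1 (hZ ht) m).symm
  refine hasNormalPComplement_of_pGroup_quotient M hM ?_
  have h6 := hasNormalPComplement_iff_isPGroup_quotient.1 h
  refine h6.of_injective (QuotientGroup.map M K (QuotientGroup.mk' Z) le_rfl) ?_
  rw [injective_iff_map_eq_one]
  intro x hx
  obtain ⟨g, rfl⟩ := QuotientGroup.mk_surjective x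
  rw [QuotientGroup.map_mk, QuotientGroup.eq_one_iff] at hx
  exact (QuotientGroup.eq_one_iff g).2 hx

/-- In a `p`-nilpotent group, `p'`-elements normalizing an abelian Sylow subgroup centralize it. -/
theorem normalizer_le_centralizer_of_hasNormalPComplement {G : Type u} [Group G] [Finite G]
    {p : ℕ} [Fact p.Prime] (h : HasNormalPComplement p G) (P : Sylow p G)
    (hab : IsMulCommutative (P : Subgroup G)) :
    Subgroup.normalizer ((P : Subgroup G) : Set G) ≤
      Subgroup.centralizer ((P : Subgroup G) : Set G) := by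
  intro n hn
  have hmem : n ∈ ((pPrimeCore p G : Subgroup G) : Set G) * ((P : Subgroup G) : Set G) := by
    rw [← Subgroup.normal_mul, pPrimeCore_sup_sylow h P]
    exact Subgroup.mem_top n
  obtain ⟨k, hk, t, ht, rfl⟩ := hmem
  refine Subgroup.mem_centralizer_iff.2 fun v hv => ?_
  have htv : t * v = v * t := congrArg Subtype.val
    (hab.is_comm.comm ⟨t, ht⟩ ⟨v, hv⟩ : (⟨t, ht⟩ : (P : Subgroup G)) * ⟨v, hv⟩ = _)
  have hkn : k ∈ Subgroup.normalizer ((P : Subgroup G) : Set G) := by
    have := Subgroup.mul_mem _ hn (Subgroup.inv_mem _ (Subgroup.le_normalizer ht))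
    rwa [mul_inv_cancel_right] at this
  have hc : k * v * k⁻¹ * v⁻¹ = 1 := by
    have h1 : k * v * k⁻¹ * v⁻¹ ∈ (P : Subgroup G) :=
      (P : Subgroup G).mul_mem ((Subgroup.mem_normalizer_iff.1 hkn v).1 hv)
        ((P : Subgroup G).inv_mem hv)
    have h2 : k * v * k⁻¹ * v⁻¹ ∈ pPrimeCore p G := by
      have := (inferInstance : (pPrimeCore p G).Normal).conj_mem _
        ((pPrimeCore p G).inv_mem hk) v
      have e : k * v * k⁻¹ * v⁻¹ = k * (v * k⁻¹ * v⁻¹) := by group
      rw [e]
      exact (pPrimeCore p G).mul_mem hk this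
    exact Subgroup.disjoint_def.1 (isComplement'_pPrimeCore h P).disjoint h2 h1
  rw [mul_inv_eq_one, mul_inv_eq_iff_eq_mul] at hc
  show v * (k * t) = k * t * v
  rw [← mul_assoc, ← hc, mul_assoc, ← htv, ← mul_assoc]

/-- The number of `p'`-elements of a `p`-nilpotent group is at most its order over the order of a
Sylow `p`-subgroup. -/
theorem card_pRegular_mul_le {G : Type u} [Group G] [Finite G] {p : ℕ} [Fact p.Prime]
    (h : HasNormalPComplement p G) (P : Sylow p G) :
    Nat.card {y : G // (orderOf y).Coprime p} * Nat.card (P : Subgroup G) ≤ Nat.card G := by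
  rw [← (isComplement'_pPrimeCore h P).card_mul_card]
  refine Nat.mul_le_mul_right _ (Nat.card_le_card_of_injective
    (fun y => (⟨y.1, mem_pPrimeCore_of_coprime h y.2⟩ : pPrimeCore p G)) fun a b hab => ?_)
  exact Subtype.ext (congrArg (fun z : pPrimeCore p G => (z : G)) hab)

/-- The counting contradiction: an abelian Sylow subgroup, self-centralizing locals and every
`p'`-element centralized by a nontrivial `p`-element force a Burnside complement. -/
theorem hasNormalPComplement_of_count {G : Type u} [Group G] [Finite G] {p : ℕ}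
    [hp : Fact p.Prime] (P : Sylow p G) (hab : IsMulCommutative (P : Subgroup G))
    (hloc : ∀ x : G, x ≠ 1 → (∃ Q : Sylow p G, x ∈ Q) →
      HasNormalPComplement p (Subgroup.centralizer ({x} : Set G)))
    (hcov : ∀ y : G, (orderOf y).Coprime p →
      ∃ x : G, x ≠ 1 ∧ (∃ Q : Sylow p G, x ∈ Q) ∧ Commute x y) :
    HasNormalPComplement p G := by
  classical
  by_contra hnot
  haveI := Fintype.ofFinite G
  haveI := Fintype.ofFinite (Sylow p G)
  set N := Subgroup.normalizer ((P : Subgroup G) : Set G)
  set C := Subgroup.centralizer ((P : Subgroup G) : Set G)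
  have hCN : C < N := lt_of_le_not_ge (Subgroup.centralizer_le_normalizer _)
    fun h => hnot (hasNormalPComplement_of_burnside P h)
  have hcardN : 2 * Nat.card C ≤ Nat.card N := by
    obtain ⟨c, hc⟩ := Subgroup.card_dvd_of_le hCN.le
    have hlt : Nat.card C < Nat.card N :=
      lt_of_le_of_ne (Subgroup.card_le_of_le hCN.le) fun e =>
        hCN.ne (Subgroup.eq_of_le_of_card_ge hCN.le e.ge)
    rcases Nat.lt_or_ge c 2 with hc2 | hc2
    · rw [hc] at hlt
      interval_cases c <;> omega
    · rw [hc, mul_comm 2]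
      exact Nat.mul_le_mul_left _ hc2
  set S : Finset G := Finset.univ.filter fun x => x ≠ 1 ∧ ∃ Q : Sylow p G, x ∈ Q with hS
  have hpairs : ∑ x ∈ S, Nat.card {Q : Sylow p G // x ∈ Q} =
      Nat.card (Sylow p G) * (Nat.card (P : Subgroup G) - 1) := by
    have hQ : ∀ Q : Sylow p G, (S.filter fun x => x ∈ Q).card = Nat.card (P : Subgroup G) - 1 := by
      intro Q
      have e : (S.filter fun x => x ∈ Q) =
          (Finset.univ.filter fun x => x ∈ (Q : Subgroup G)).erase 1 := by
        ext x
        simp only [hS, Finset.mem_filter, Finset.mem_univ, true_and, Finset.mem_erase]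
        exact ⟨fun h => ⟨h.1.1, h.2⟩, fun h => ⟨⟨h.1, Q, h.2⟩, h.2⟩⟩
      rw [e, Finset.card_erase_of_mem (by simp [Subgroup.one_mem])]
      congr 1
      rw [← Fintype.card_subtype, ← Nat.card_eq_fintype_card, P.card_eq_multiplicity]
      exact Q.card_eq_multiplicity
    calc ∑ x ∈ S, Nat.card {Q : Sylow p G // x ∈ Q}
        = ∑ x ∈ S, (Finset.univ.filter fun Q : Sylow p G => x ∈ Q).card :=
          Finset.sum_congr rfl fun x _ => by rw [Nat.card_eq_fintype_card, Fintype.card_subtype]
      _ = ∑ Q : Sylow p G, (S.filter fun x => x ∈ Q).card := by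
          simp only [Finset.card_filter]
          exact Finset.sum_comm
      _ = _ := by
          rw [Finset.sum_congr rfl fun Q _ => hQ Q, Finset.sum_const, Finset.card_univ,
            smul_eq_mul, Nat.card_eq_fintype_card (α := Sylow p G)]
  have hlocal : ∀ x ∈ S, Nat.card (Subgroup.centralizer ({x} : Set G)) =
      Nat.card {Q : Sylow p G // x ∈ Q} * Nat.card C ∧
      Nat.card {y : Subgroup.centralizer ({x} : Set G) // (orderOf y).Coprime p} *
        Nat.card (P : Subgroup G) ≤ Nat.card (Subgroup.centralizer ({x} : Set G)) := by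
    intro x hx
    rw [hS, Finset.mem_filter] at hx
    obtain ⟨-, hx1, Q₀, hQ₀⟩ := hx
    set L := Subgroup.centralizer ({x} : Set G)
    have habQ : ∀ Q : Sylow p G, ∀ a ∈ Q, ∀ b ∈ Q, a * b = b * a := by
      intro Q a ha b hb
      have := hab
      let e := P.equiv Q
      obtain ⟨a', ha'⟩ := e.surjective ⟨a, ha⟩
      obtain ⟨b', hb'⟩ := e.surjective ⟨b, hb⟩
      have h := congrArg e (hab.is_comm.comm a' b')
      rw [map_mul, map_mul, ha', hb'] at h
      exact congrArg Subtype.val h
    have hle : ∀ Q : Sylow p G, x ∈ Q → (Q : Subgroup G) ≤ L := fun Q hQ q hq =>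
      Subgroup.mem_centralizer_singleton_iff.2 (habQ Q q hq x hQ)
    have hbij : Function.Bijective (fun Q : {Q : Sylow p G // x ∈ Q} =>
        (Q.1.subtype (hle Q.1 Q.2) : Sylow p L)) := by
      constructor
      · intro A B hAB
        exact Subtype.ext (Sylow.subtype_injective hAB)
      · intro T
        obtain ⟨Q, hQ⟩ := T.exists_comap_subtype_eq
        have hxc : x ∈ L := Subgroup.mem_centralizer_singleton_iff.2 rfl
        have hxT : (⟨x, hxc⟩ : L) ∈ (T : Subgroup L) := by
          have hc : (⟨x, hxc⟩ : L) ∈ Subgroup.center L := Subgroup.mem_center_iff.2 fun l =>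
            Subtype.ext (Subgroup.mem_centralizer_singleton_iff.1 l.2)
          have hn : Subgroup.zpowers (⟨x, hxc⟩ : L) ≤ Subgroup.center L :=
            Subgroup.zpowers_le.2 hc
          haveI : (Subgroup.zpowers (⟨x, hxc⟩ : L)).Normal := ⟨fun a ha g => by
            rw [Subgroup.mem_center_iff.1 (hn ha) g, mul_inv_cancel_right]
            exact ha⟩
          have hpx : IsPGroup p (Subgroup.zpowers (⟨x, hxc⟩ : L)) := by
            obtain ⟨j, hj⟩ := Q₀.2 ⟨x, hQ₀⟩
            rintro ⟨_, i, rfl⟩
            refine ⟨j, Subtype.ext (Subtype.ext ?_)⟩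
            simp only [SubgroupClass.coe_pow, OneMemClass.coe_one, SubgroupClass.coe_zpow]
            rw [← zpow_natCast, ← zpow_mul, mul_comm, zpow_mul, zpow_natCast,
              show x ^ p ^ j = 1 from congrArg Subtype.val hj, one_zpow]
          exact (CfsgLib.Cores.le_pCore hpx).trans (CfsgLib.Cores.pCore_le_sylow T)
            (Subgroup.mem_zpowers _)
        have hxQ : x ∈ Q := by
          rw [← hQ] at hxT
          exact hxT
        refine ⟨⟨Q, hxQ⟩, Sylow.ext ?_⟩
        exact hQ
    set T₀ : Sylow p L := Q₀.subtype (hle Q₀ hQ₀)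
    have hL := hloc x hx1 ⟨Q₀, hQ₀⟩
    have habT : IsMulCommutative (T₀ : Subgroup L) :=
      ⟨⟨fun a b => Subtype.ext (Subtype.ext (habQ Q₀ _ a.2 _ b.2))⟩⟩
    have hnorm : Subgroup.normalizer ((T₀ : Subgroup L) : Set L) =
        (Subgroup.centralizer ((Q₀ : Subgroup G) : Set G)).subgroupOf L := by
      apply le_antisymm
      · intro l hl
        have := normalizer_le_centralizer_of_hasNormalPComplement hL T₀ habT hl
        refine Subgroup.mem_centralizer_iff.2 fun q hq => ?_
        exact congrArg Subtype.val (Subgroup.mem_centralizer_iff.1 this ⟨q, hle Q₀ hQ₀ hq⟩ hq)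
      · intro l hl
        refine Subgroup.centralizer_le_normalizer _ (Subgroup.mem_centralizer_iff.2 fun t ht => ?_)
        exact Subtype.ext (Subgroup.mem_centralizer_iff.1 hl _ ht)
    have hCQ : Nat.card (Subgroup.centralizer ((Q₀ : Subgroup G) : Set G)) = Nat.card C := by
      obtain ⟨g, hg⟩ := MulAction.exists_smul_eq G P Q₀
      rw [show C = Subgroup.centralizer ((P : Subgroup G) : Set G) from rfl, ← hg,
        Sylow.coe_subgroup_smul]
      refine (Nat.card_congr (Equiv.subtypeEquiv (MulAut.conj g).toEquiv fun c => ?_)).symm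
      rw [Subgroup.mem_centralizer_iff, Subgroup.mem_centralizer_iff]
      constructor
      · rintro h _ ⟨q, hq, rfl⟩
        simpa [mul_assoc] using congrArg (fun z => g * z * g⁻¹) (h q hq)
      · intro h q hq
        have := h _ ⟨q, hq, rfl⟩
        simpa [mul_assoc] using congrArg (fun z => g⁻¹ * z * g) this
    have hCL : Subgroup.centralizer ((Q₀ : Subgroup G) : Set G) ≤ L := fun c hc =>
      Subgroup.mem_centralizer_singleton_iff.2 ((Subgroup.mem_centralizer_iff.1 hc x hQ₀).symm)
    refine ⟨?_, ?_⟩
    · rw [Nat.card_congr (Equiv.ofBijective _ hbij), T₀.card_eq_index_normalizer,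
        ← hCQ, ← Nat.card_congr (Subgroup.subgroupOfEquivOfLe hCL).toEquiv, ← hnorm]
      exact (Subgroup.index_mul_card _).symm
    · have := card_pRegular_mul_le hL T₀
      have e : Nat.card (T₀ : Subgroup L) = Nat.card (P : Subgroup G) := by
        rw [P.card_eq_multiplicity, ← Q₀.card_eq_multiplicity]
        exact Nat.card_congr (Subgroup.subgroupOfEquivOfLe (hle Q₀ hQ₀)).toEquiv
      rwa [e] at this
  set A := fun x : G => {y : Subgroup.centralizer ({x} : Set G) // (orderOf y).Coprime p}
  -- every element is a `p'`-element or has a nontrivial `p`-part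
  have hsplit : Nat.card G ≤ 2 * ∑ x ∈ S, Nat.card (A x) := by
    have hA : ∀ x : G, ∀ y : G, Commute x y → (orderOf y).Coprime p →
        ∃ a : A x, ((a : Subgroup.centralizer ({x} : Set G)) : G) = y := by
      intro x y hxy hy
      refine ⟨⟨⟨y, Subgroup.mem_centralizer_singleton_iff.2 hxy.symm.eq⟩, ?_⟩, rfl⟩
      rw [← Subgroup.orderOf_coe]
      exact hy
    have hex : ∀ g : G, ∃ z : (Σ x : S, A (x : G)) ⊕ (Σ x : S, A (x : G)),
        Sum.elim (fun s => (s.1 : G) * ((s.2.1 : Subgroup.centralizer ({(s.1 : G)} : Set G)) : G))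
          (fun s => ((s.2.1 : Subgroup.centralizer ({(s.1 : G)} : Set G)) : G)) z = g := by
      intro g
      obtain ⟨u, v, -, -, huv, hcomm, ⟨k, hk⟩, hv⟩ :=
        CfsgLib.Subnormal.exists_pPart_mul hp.out g
      rcases eq_or_ne u 1 with rfl | hu
      · rw [one_mul] at huv
        subst huv
        obtain ⟨x, hx1, hxQ, hxy⟩ := hcov v hv
        obtain ⟨a, ha⟩ := hA x v hxy hv
        exact ⟨Sum.inr ⟨⟨x, by rw [hS, Finset.mem_filter]; exact ⟨Finset.mem_univ _, hx1, hxQ⟩⟩, a⟩,
          ha⟩
      · have huQ : ∃ Q : Sylow p G, u ∈ Q := by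
          have hpu : IsPGroup p (Subgroup.zpowers u) :=
            IsPGroup.of_card (n := k) (by rw [Nat.card_zpowers, hk])
          obtain ⟨Q, hQ⟩ := hpu.exists_le_sylow
          exact ⟨Q, hQ (Subgroup.mem_zpowers u)⟩
        obtain ⟨a, ha⟩ := hA u v hcomm hv
        refine ⟨Sum.inl ⟨⟨u, by rw [hS, Finset.mem_filter]; exact ⟨Finset.mem_univ _, hu, huQ⟩⟩,
          a⟩, ?_⟩
        show u * _ = g
        rw [ha, huv]
    choose f hf using hex
    have hinj : Function.Injective f := fun a b h => by rw [← hf a, ← hf b, h]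
    refine (Nat.card_le_card_of_injective f hinj).trans (le_of_eq ?_)
    rw [Nat.card_sum, Nat.card_sigma, two_mul]
    congr 1 <;> exact (Finset.sum_coe_sort S fun x => Nat.card (A x))
  have hnp : Nat.card (Sylow p G) * Nat.card N = Nat.card G := by
    rw [P.card_eq_index_normalizer]
    exact Subgroup.index_mul_card _
  set m := Nat.card (P : Subgroup G) with hm
  have h1 : Nat.card G * m ≤ 2 * (Nat.card (Sylow p G) * (m - 1) * Nat.card C) := by
    calc Nat.card G * m ≤ 2 * (∑ x ∈ S, Nat.card (A x)) * m := Nat.mul_le_mul_right _ hsplit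
      _ = 2 * ∑ x ∈ S, Nat.card (A x) * m := by rw [mul_assoc, Finset.sum_mul]
      _ ≤ 2 * ∑ x ∈ S, Nat.card (Subgroup.centralizer ({x} : Set G)) :=
          Nat.mul_le_mul_left _ (Finset.sum_le_sum fun x hx => (hlocal x hx).2)
      _ = _ := by
          rw [Finset.sum_congr rfl fun x hx => (hlocal x hx).1, ← Finset.sum_mul, hpairs]
  have h2 : 2 * (Nat.card (Sylow p G) * (m - 1) * Nat.card C) ≤ Nat.card G * (m - 1) := by
    rw [← hnp]
    calc 2 * (Nat.card (Sylow p G) * (m - 1) * Nat.card C)
        = Nat.card (Sylow p G) * (m - 1) * (2 * Nat.card C) := by ring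
      _ ≤ Nat.card (Sylow p G) * (m - 1) * Nat.card N := Nat.mul_le_mul_left _ hcardN
      _ = _ := by ring
  have hmpos : 0 < m := Nat.card_pos
  have h3 := Nat.le_of_mul_le_mul_left (h1.trans h2) Nat.card_pos
  omega

/-- Centralizer hypothesis: every `p'`-element centralizes a subgroup of index at most `p` in a
Sylow `p`-subgroup. -/
def NearlyCentralSylow (p : ℕ) (G : Type u) [Group G] : Prop :=
  ∀ y : G, (orderOf y).Coprime p → ∃ T : Subgroup G, IsPGroup p T ∧
    T ≤ Subgroup.centralizer ({y} : Set G) ∧ ∀ P : Sylow p G, Nat.card P ≤ p * Nat.card T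

/-- Smallest prime, elementary abelian Sylow subgroups: the hypothesis gives a normal
`p`-complement. -/
theorem hasNormalPComplement_of_nearlyCentral {G : Type u} [Group G] [Finite G] {p : ℕ}
    [hp : Fact p.Prime] (hmin : ∀ r : ℕ, r.Prime → r ∣ Nat.card G → p ≤ r)
    (hel : ∀ P : Sylow p G, IsElementaryAbelian p (P : Subgroup G))
    (h : NearlyCentralSylow p G) : HasNormalPComplement p G := by
  induction hn : Nat.card G using Nat.strong_induction_on generalizing G with
  | _ n ih =>
    subst hn
    obtain ⟨P⟩ : Nonempty (Sylow p G) := inferInstance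
    by_cases hdvd : p ∣ Nat.card G
    swap
    · exact hasNormalPComplement_of_coprime ((hp.out.coprime_iff_not_dvd.2 hdvd).symm)
    have hG1 : Nat.card G ≠ 1 := fun h => hp.out.not_dvd_one (h ▸ hdvd)
    have hfac : (Nat.card G).minFac = p := le_antisymm (Nat.minFac_le_of_dvd hp.out.two_le hdvd)
      (hmin _ (Nat.minFac_prime hG1) (Nat.minFac_dvd _))
    obtain ⟨m, hm⟩ := IsPGroup.iff_card.1 P.2
    rcases Nat.lt_or_ge m 2 with hm2 | hm2
    · refine hasNormalPComplement_of_burnside P (IsCyclic.normalizer_le_centralizer hfac ?_)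
      interval_cases m
      · rw [pow_zero] at hm
        haveI : Subsingleton (P : Subgroup G) := (Nat.card_eq_one_iff_unique.1 hm).1
        infer_instance
      · exact isCyclic_of_prime_card (p := p) (by simpa using hm)
    by_cases hz : ∃ z ∈ (P : Subgroup G), z ≠ 1 ∧ z ∈ Subgroup.center G
    · obtain ⟨z, hzP, hz1, hzc⟩ := hz
      set Z := Subgroup.zpowers z
      have hZc : Z ≤ Subgroup.center G := Subgroup.zpowers_le.2 hzc
      haveI : Z.Normal := ⟨fun a ha g => by
        rw [Subgroup.mem_center_iff.1 (hZc ha) g, mul_inv_cancel_right]; exact ha⟩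
      have hZp : IsPGroup p Z := P.2.to_le (Subgroup.zpowers_le.2 hzP)
      have hlt : Nat.card (G ⧸ Z) < Nat.card G := by
        rw [Subgroup.card_eq_card_quotient_mul_card_subgroup Z]
        exact lt_mul_of_one_lt_right Nat.card_pos ((Subgroup.one_lt_card_iff_ne_bot Z).2
          fun e => hz1 (Subgroup.mem_bot.1 (e ▸ Subgroup.mem_zpowers z)))
      refine hasNormalPComplement_of_central_quotient Z hZc hZp
        (ih _ hlt (fun r hr hrd => hmin r hr (hrd.trans (Subgroup.card_quotient_dvd_card Z)))
          ?_ ?_ rfl)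
      · intro Q
        obtain ⟨P', hP'⟩ := Sylow.mapSurjective_surjective (QuotientGroup.mk'_surjective Z) p Q
        rw [← hP', Sylow.coe_mapSurjective]
        refine ⟨⟨⟨?_⟩⟩, ?_⟩
        · rintro ⟨_, a, ha, rfl⟩ ⟨_, b, hb, rfl⟩
          refine Subtype.ext ?_
          show QuotientGroup.mk' Z a * QuotientGroup.mk' Z b = _
          rw [← map_mul]
          show _ = QuotientGroup.mk' Z b * QuotientGroup.mk' Z a
          rw [← map_mul]
          exact congrArg _ (congrArg Subtype.val ((hel P').1.is_comm.comm ⟨a, ha⟩ ⟨b, hb⟩))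
        · rintro _ ⟨a, ha, rfl⟩
          rw [← map_pow, (hel P').2 a ha, map_one]
      · intro y hy
        obtain ⟨g, rfl⟩ := QuotientGroup.mk'_surjective Z y
        obtain ⟨a, b, hab, ⟨k, hk⟩, hb⟩ := exists_pParts (p := p) (isOfFinOrder_of_finite g)
        have hga : QuotientGroup.mk' Z (g ^ a) = 1 := by
          refine orderOf_eq_one_iff.1 (Nat.eq_one_of_dvd_coprimes (hy.pow_right k)
            ?_ ((orderOf_map_dvd _ _).trans hk))
          rw [map_pow]
          exact orderOf_pow_dvd a
        obtain ⟨T, hT, hTC, hTcard⟩ := h (g ^ b) hb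
        refine ⟨(T ⊔ Z).map (QuotientGroup.mk' Z), ?_, ?_, fun Q => ?_⟩
        · exact (hT.to_sup_of_normal_right hZp).map _
        · rintro _ ⟨t, ht, rfl⟩
          have htc : t ∈ Subgroup.centralizer ({g ^ b} : Set G) :=
            (sup_le hTC (hZc.trans fun c hc => Subgroup.mem_centralizer_singleton_iff.2
              (Subgroup.mem_center_iff.1 hc _).symm)) ht
          rw [Subgroup.mem_centralizer_singleton_iff, ← hab, map_mul, hga, one_mul, ← map_mul,
            ← map_mul, Subgroup.mem_centralizer_singleton_iff.1 htc]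
        · obtain ⟨P', hP'⟩ := Sylow.mapSurjective_surjective (QuotientGroup.mk'_surjective Z) p Q
          rw [← hP']
          have hcard : ∀ X : Subgroup G, Z ≤ X →
              Nat.card (X.map (QuotientGroup.mk' Z)) * Nat.card Z = Nat.card X := by
            intro X hX
            have h3 := Subgroup.relIndex_comap (H := (⊥ : Subgroup (G ⧸ Z))) (QuotientGroup.mk' Z) X
            rw [MonoidHom.comap_bot, QuotientGroup.ker_mk', Subgroup.relIndex_bot_left] at h3
            have h4 := Subgroup.card_mul_index (Z.subgroupOf X)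
            rw [← Subgroup.relIndex, h3, Nat.card_congr (Subgroup.subgroupOfEquivOfLe hX).toEquiv]
              at h4
            rw [mul_comm, h4]
          have hZP' : Z ≤ (P' : Subgroup G) :=
            (CfsgLib.Cores.le_pCore hZp).trans (CfsgLib.Cores.pCore_le_sylow P')
          refine Nat.le_of_mul_le_mul_right ?_ (Nat.card_pos (α := Z))
          rw [show Nat.card (P'.mapSurjective (QuotientGroup.mk'_surjective Z) : Subgroup (G ⧸ Z)) =
            Nat.card ((P' : Subgroup G).map (QuotientGroup.mk' Z)) by rw [Sylow.coe_mapSurjective],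
            mul_assoc, hcard _ hZP', hcard _ le_sup_right]
          exact (hTcard P').trans (Nat.mul_le_mul_left _ (Subgroup.card_le_of_le le_sup_left))
    push Not at hz
    refine hasNormalPComplement_of_count P (hel P).1 ?_ ?_
    · intro x hx1 hxQ
      obtain ⟨Q, hxQ⟩ := hxQ
      set L := Subgroup.centralizer ({x} : Set G)
      have hxL : L ≠ ⊤ := by
        intro he
        have hc : x ∈ Subgroup.center G := by
          rw [Subgroup.mem_center_iff]
          intro g
          exact Subgroup.mem_centralizer_singleton_iff.1 (he.symm ▸ Subgroup.mem_top g : g ∈ L)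
        have hxP : x ∈ (P : Subgroup G) := by
          obtain ⟨g, hg⟩ := MulAction.exists_smul_eq G Q P
          rw [← hg, Sylow.coe_subgroup_smul]
          refine ⟨x, hxQ, ?_⟩
          show g * x * g⁻¹ = x
          rw [Subgroup.mem_center_iff.1 hc g, mul_inv_cancel_right]
        exact hz x hxP hx1 hc
      have hlt : Nat.card L < Nat.card G := lt_of_le_of_ne (Subgroup.card_le_card_group _)
        fun e => hxL (Subgroup.card_eq_iff_eq_top L |>.1 e)
      have hQL : (Q : Subgroup G) ≤ L := fun q hq => Subgroup.mem_centralizer_singleton_iff.2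
        (congrArg Subtype.val ((hel Q).1.is_comm.comm ⟨q, hq⟩ ⟨x, hxQ⟩))
      refine ih _ hlt (fun r hr hrd => hmin r hr (hrd.trans (Subgroup.card_subgroup_dvd_card _)))
        ?_ ?_ rfl
      · intro T
        obtain ⟨R, hR⟩ := T.exists_comap_subtype_eq
        refine ⟨⟨⟨fun a b => Subtype.ext (Subtype.ext ?_)⟩⟩, fun a ha => Subtype.ext ?_⟩
        · have ha : ((a : L) : G) ∈ R := hR.symm.le a.2
          have hb : ((b : L) : G) ∈ R := hR.symm.le b.2
          simp only [Subgroup.coe_mul]
          exact congrArg Subtype.val ((hel R).1.is_comm.comm ⟨_, ha⟩ ⟨_, hb⟩)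
        · exact (hel R).2 _ (hR.symm.le ha : (a : G) ∈ R)
      · intro y hy
        obtain ⟨T, hT, hTC, hTcard⟩ := h (y : G) (by rwa [Subgroup.orderOf_coe])
        set D := Subgroup.centralizer ({(y : G)} : Set G)
        have hxD : x ∈ D := Subgroup.mem_centralizer_singleton_iff.2
          (Subgroup.mem_centralizer_singleton_iff.1 y.2).symm
        have hpx : IsPGroup p (Subgroup.zpowers x) := Q.2.to_le (Subgroup.zpowers_le.2 hxQ)
        obtain ⟨S₁, hS₁⟩ := (hpx.comap_subtype (K := D)).exists_le_sylow
        obtain ⟨S₂, hS₂⟩ := (hT.comap_subtype (K := D)).exists_le_sylow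
        set U := (S₁ : Subgroup D).map D.subtype
        have hU : IsPGroup p U := S₁.2.map _
        obtain ⟨R, hR⟩ := hU.exists_le_sylow
        have hxU : x ∈ U := ⟨⟨x, hxD⟩, hS₁ (Subgroup.mem_zpowers x), rfl⟩
        have hUL : U ≤ L := fun u hu => Subgroup.mem_centralizer_singleton_iff.2
          (congrArg Subtype.val ((hel R).1.is_comm.comm ⟨u, hR hu⟩ ⟨x, hR hxU⟩))
        refine ⟨U.subgroupOf L, hU.comap_subtype, fun u hu => ?_, fun T' => ?_⟩
        · rw [Subgroup.mem_centralizer_singleton_iff]
          obtain ⟨u', -, hu'⟩ := (hu : (u : G) ∈ U)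
          refine Subtype.ext ?_
          show (u : G) * y = y * u
          rw [← show ((u' : D) : G) = (u : G) from hu']
          exact Subgroup.mem_centralizer_singleton_iff.1 u'.2
        · rw [Nat.card_congr (Subgroup.subgroupOfEquivOfLe hUL).toEquiv]
          have h1 : Nat.card T ≤ Nat.card U := by
            rw [← Nat.card_congr (Subgroup.equivMapOfInjective _ D.subtype
              D.subtype_injective).toEquiv, S₁.card_eq_multiplicity, ← S₂.card_eq_multiplicity,
              ← Nat.card_congr (Subgroup.subgroupOfEquivOfLe hTC).toEquiv]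
            exact Subgroup.card_le_of_le hS₂
          have h2 : Nat.card T' ≤ Nat.card P := by
            have hm' : IsPGroup p ((T' : Subgroup L).map L.subtype) := T'.2.map _
            obtain ⟨R', hR'⟩ := hm'.exists_le_sylow
            rw [P.card_eq_multiplicity, ← R'.card_eq_multiplicity]
            refine le_of_eq_of_le ?_ (Subgroup.card_le_of_le hR')
            exact Nat.card_congr (Subgroup.equivMapOfInjective _ L.subtype
              L.subtype_injective).toEquiv
          exact h2.trans ((hTcard P).trans (Nat.mul_le_mul_left _ h1))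
    · intro y hy
      obtain ⟨T, hT, hTC, hTcard⟩ := h y hy
      have hT1 : T ≠ ⊥ := by
        rintro rfl
        have := hTcard P
        rw [Subgroup.card_bot, mul_one, hm] at this
        exact absurd this (not_le.2 (by
          calc p = p ^ 1 := (pow_one p).symm
            _ < p ^ m := Nat.pow_lt_pow_right hp.out.one_lt (by omega)))
      obtain ⟨⟨x, hxT⟩, hx1'⟩ := (Subgroup.ne_bot_iff_exists_ne_one).1 hT1
      have hx1 : x ≠ 1 := fun e => hx1' (Subtype.ext e)
      obtain ⟨Q, hQ⟩ := hT.exists_le_sylow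
      exact ⟨x, hx1, ⟨Q, hQ hxT⟩, Subgroup.mem_centralizer_singleton_iff.1 (hTC hxT)⟩

/-- Every element centralizes a conjugate of the Frattini subgroup of a Sylow `p`-subgroup when
`p ^ 2` divides no class size; hence that subgroup is central. -/
theorem frattini_sylow_le_center {G : Type u} [Group G] [Finite G] {p : ℕ} [hp : Fact p.Prime]
    (h : ∀ g : G, ¬ p ^ 2 ∣ (Subgroup.centralizer ({g} : Set G)).index) (P : Sylow p G) :
    (frattini (P : Subgroup G)).map (P : Subgroup G).subtype ≤ Subgroup.center G := by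
  set F := (frattini (P : Subgroup G)).map (P : Subgroup G).subtype with hF
  suffices hS : Subgroup.centralizer (F : Set G) = ⊤ by
    intro f hf
    rw [Subgroup.mem_center_iff]
    intro g
    exact (Subgroup.mem_centralizer_iff.1 (hS.symm ▸ Subgroup.mem_top g :
      g ∈ Subgroup.centralizer (F : Set G)) f hf).symm
  refine CfsgLib.Subnormal.eq_top_of_forall_exists_conj_mem fun z => ?_
  set C := Subgroup.centralizer ({z} : Set G) with hC
  obtain ⟨T⟩ : Nonempty (Sylow p C) := inferInstance
  obtain ⟨Q, hQ⟩ := (T.2.map C.subtype).exists_le_sylow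
  set T' := (T : Subgroup C).map C.subtype with hT'
  have hindex : T'.relIndex (Q : Subgroup G) ∣ p := by
    obtain ⟨j, hj⟩ := Q.2.index (T'.subgroupOf (Q : Subgroup G))
    have hd : T'.relIndex (Q : Subgroup G) ∣ T'.index :=
      ⟨(Q : Subgroup G).index, (Subgroup.relIndex_mul_index hQ).symm⟩
    rw [Subgroup.relIndex, hj] at hd ⊢
    rw [hT', Subgroup.index_map_subtype] at hd
    have hd' : p ^ j ∣ C.index :=
      (((hp.out.coprime_iff_not_dvd).2 T.not_dvd_index).pow_left j).dvd_of_dvd_mul_left hd
    rcases j with _ | _ | j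
    · simp
    · simp
    · exact absurd ((pow_dvd_pow p (by omega)).trans hd') (h z)
  have hfr : (frattini (Q : Subgroup G)).map (Q : Subgroup G).subtype ≤ C := by
    refine le_trans ?_ (Subgroup.map_subtype_le _ : T' ≤ C)
    rintro _ ⟨a, ha, rfl⟩
    rcases (Nat.dvd_prime hp.out).1 hindex with h1 | h1
    · exact Subgroup.relIndex_eq_one.1 h1 a.2
    · have hc : IsCoatom (T'.subgroupOf (Q : Subgroup G)) :=
        CfsgLib.TwoGroups.isCoatom_of_index_prime (show (T'.relIndex (Q : Subgroup G)).Prime by
          rw [h1]; exact hp.out)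
      exact (frattini_le_coatom hc) ha
  obtain ⟨g, hg⟩ := MulAction.exists_smul_eq G Q P
  refine ⟨g, Subgroup.mem_centralizer_iff.2 fun f hf => ?_⟩
  obtain ⟨a, ha, rfl⟩ := hf
  have hmemQ : g⁻¹ * (a : G) * g ∈ (Q : Subgroup G) := by
    have ha' : (a : G) ∈ (P : Subgroup G) := a.2
    replace ha' := (SetLike.ext_iff.1
      ((congrArg Sylow.toSubgroup hg).symm.trans Sylow.coe_subgroup_smul) (a : G)).1 ha'
    obtain ⟨q, hq, hqa⟩ := ha'
    rw [show g⁻¹ * (a : G) * g = q by rw [← hqa]; simp [mul_assoc]]
    exact hq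
  have hmemF : (⟨_, hmemQ⟩ : (Q : Subgroup G)) ∈ frattini (Q : Subgroup G) := by
    let e : (P : Subgroup G) ≃* (Q : Subgroup G) :=
      (MulEquiv.subgroupMap (MulAut.conj g⁻¹) (P : Subgroup G)).trans (MulEquiv.subgroupCongr (by
        rw [← hg, Sylow.coe_subgroup_smul]
        ext x
        simp [Subgroup.mem_map, Subgroup.mem_pointwise_smul_iff_inv_smul_mem, MulAut.smul_def,
          mul_assoc]
        exact ⟨fun ⟨y, h, e⟩ => e ▸ h, fun hx =>
          ⟨g * x * g⁻¹, by simpa [mul_assoc] using hx, by simp [mul_assoc]⟩⟩))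
    have he : (⟨_, hmemQ⟩ : (Q : Subgroup G)) = e a := Subtype.ext (by simp [e])
    rw [he, ← CfsgLib.PGroups.map_frattini_eq P.2 e.toMonoidHom e.surjective]
    exact ⟨a, ha, rfl⟩
  have := Subgroup.mem_centralizer_singleton_iff.1 (hfr ⟨_, hmemF, rfl⟩)
  show (a : G) * (g * z * g⁻¹) = g * z * g⁻¹ * (a : G)
  have e1 := congrArg (fun w => g * w * g⁻¹) this
  simpa [mul_assoc] using e1

end CfsgLib.Frobenius
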