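import Mathlib

/-!
The five small quotients of a Frobenius complement: `D₄` (Klein four), `A₄`, `S₄`, `A₅`, `S₅`.
-/

set_option autoImplicit false

namespace CfsgLib.ComplementQuotient

open Equiv Subgroup

/-- Two distinct commuting involutions in a subgroup. -/
def HasPair {T : Type*} [Group T] (J : Subgroup T) : Prop :=
  ∃ u ∈ J, ∃ v ∈ J, u * u = 1 ∧ u ≠ 1 ∧ v * v = 1 ∧ v ≠ 1 ∧ u ≠ v ∧ u * v = v * u

/-- Every nontrivial normal subgroup contains two distinct commuting involutions. -/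
def FatNormals (T : Type*) [Group T] : Prop :=
  ∀ J : Subgroup T, J.Normal → J ≠ ⊥ → HasPair J

theorem a4_comm : ∀ g : alternatingGroup (Fin 4), g ≠ 1 → ∃ h, (g * h * g⁻¹ * h⁻¹) * (g * h * g⁻¹ * h⁻¹) = 1 ∧ g * h * g⁻¹ * h⁻¹ ≠ 1 := by decide +kernel
theorem a4_conj : ∀ u : alternatingGroup (Fin 4), u * u = 1 → u ≠ 1 → ∃ k, k * u * k⁻¹ ≠ u ∧ u * (k * u * k⁻¹) = (k * u * k⁻¹) * u := by decide +kernel
theorem s4_comm : ∀ g : Perm (Fin 4), g ≠ 1 → ∃ h, (g * h * g⁻¹ * h⁻¹) * (g * h * g⁻¹ * h⁻¹) = 1 ∧ g * h * g⁻¹ * h⁻¹ ≠ 1 := by decide +kernel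
theorem s4_conj : ∀ u : Perm (Fin 4), Perm.sign u = 1 → u * u = 1 → u ≠ 1 → ∃ k, k * u * k⁻¹ ≠ u ∧ u * (k * u * k⁻¹) = (k * u * k⁻¹) * u := by decide +kernel

theorem five_pair :
    ∃ u v : alternatingGroup (Fin 5), u * u = 1 ∧ u ≠ 1 ∧ v * v = 1 ∧ v ≠ 1 ∧ u ≠ v ∧ u * v = v * u :=
  ⟨⟨swap 0 1 * swap 2 3, Equiv.Perm.mem_alternatingGroup.mpr (by decide)⟩, ⟨swap 0 2 * swap 1 3, Equiv.Perm.mem_alternatingGroup.mpr (by decide)⟩, by decide, by decide, by decide,
    by decide, by decide, by decide⟩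

theorem fatNormals_alternating_four : FatNormals (alternatingGroup (Fin 4)) := by
  intro J hJ hne
  obtain ⟨g, hg, hg1⟩ := J.ne_bot_iff_exists_ne_one.mp hne |> fun ⟨⟨g, hg⟩, h⟩ =>
    (⟨g, hg, fun h' => h (Subtype.ext h')⟩ : ∃ g, g ∈ J ∧ g ≠ 1)
  obtain ⟨h, h2, h1⟩ := a4_comm g hg1
  have hu : g * h * g⁻¹ * h⁻¹ ∈ J := by
    rw [show g * h * g⁻¹ * h⁻¹ = g * (h * g⁻¹ * h⁻¹) by group]
    exact J.mul_mem hg (hJ.conj_mem _ (J.inv_mem hg) h)
  obtain ⟨k, hk, hkc⟩ := a4_conj _ h2 h1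
  refine ⟨_, hu, _, hJ.conj_mem _ hu k, h2, h1, ?_, ?_, fun e => hk e.symm, hkc⟩
  · rw [show ∀ w, k * w * k⁻¹ * (k * w * k⁻¹) = k * (w * w) * k⁻¹ from fun w => by group, h2]; group
  · exact fun e => h1 (by simpa [mul_inv_eq_one, mul_eq_left] using e)

theorem fatNormals_perm_four : FatNormals (Perm (Fin 4)) := by
  intro J hJ hne
  obtain ⟨g, hg, hg1⟩ := J.ne_bot_iff_exists_ne_one.mp hne |> fun ⟨⟨g, hg⟩, h⟩ =>
    (⟨g, hg, fun h' => h (Subtype.ext h')⟩ : ∃ g, g ∈ J ∧ g ≠ 1)
  obtain ⟨h, h2, h1⟩ := s4_comm g hg1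
  have hu : g * h * g⁻¹ * h⁻¹ ∈ J := by
    rw [show g * h * g⁻¹ * h⁻¹ = g * (h * g⁻¹ * h⁻¹) by group]
    exact J.mul_mem hg (hJ.conj_mem _ (J.inv_mem hg) h)
  have hsign : Perm.sign (g * h * g⁻¹ * h⁻¹) = 1 := by
    simp only [map_mul, map_inv]
    rw [mul_inv_cancel_comm, mul_inv_cancel]
  obtain ⟨k, hk, hkc⟩ := s4_conj _ hsign h2 h1
  refine ⟨_, hu, _, hJ.conj_mem _ hu k, h2, h1, ?_, ?_, fun e => hk e.symm, hkc⟩
  · rw [show ∀ w, k * w * k⁻¹ * (k * w * k⁻¹) = k * (w * w) * k⁻¹ from fun w => by group, h2]; group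
  · exact fun e => h1 (by simpa [mul_inv_eq_one, mul_eq_left] using e)

theorem isSimpleGroup_alternating_five : IsSimpleGroup (alternatingGroup (Fin 5)) :=
  alternatingGroup.isSimpleGroup (by simp)

theorem fatNormals_alternating_five : FatNormals (alternatingGroup (Fin 5)) := by
  intro J hJ hne
  have := isSimpleGroup_alternating_five
  rw [hJ.eq_bot_or_eq_top.resolve_left hne]
  obtain ⟨u, v, h⟩ := five_pair
  exact ⟨u, mem_top u, v, mem_top v, h⟩

theorem five_central : ∀ g : Perm (Fin 5), g * (swap 0 1 * swap 2 3) = swap 0 1 * swap 2 3 * g →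
    g * (swap 0 1 * swap 1 2) = swap 0 1 * swap 1 2 * g →
    g * (swap 2 3 * swap 3 4) = swap 2 3 * swap 3 4 * g → g = 1 := by
  decide +kernel

theorem eq_one_of_commute_alternating {g : Perm (Fin 5)}
    (h : ∀ a ∈ alternatingGroup (Fin 5), g * a = a * g) : g = 1 :=
  five_central g (h _ (Equiv.Perm.mem_alternatingGroup.mpr (by decide)))
    (h _ (Equiv.Perm.mem_alternatingGroup.mpr (by decide)))
    (h _ (Equiv.Perm.mem_alternatingGroup.mpr (by decide)))

theorem fatNormals_perm_five : FatNormals (Perm (Fin 5)) := by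
  intro J hJ hne
  have := isSimpleGroup_alternating_five
  set A := alternatingGroup (Fin 5)
  rcases ((hJ.subgroupOf A : (J.subgroupOf A).Normal)).eq_bot_or_eq_top with h | h
  · exfalso
    refine hne (eq_bot_iff.mpr fun g hg => ?_)
    rw [mem_bot]
    refine eq_one_of_commute_alternating fun a ha => ?_
    have hA : A.Normal := alternatingGroup.normal
    exact Subgroup.commute_of_normal_of_disjoint J A hJ hA (subgroupOf_eq_bot.mp h) g a hg ha
  · obtain ⟨u, v, h1, h2, h3, h4, h5, h6⟩ := five_pair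
    exact ⟨u, (subgroupOf_eq_top.mp h) u.2, v, (subgroupOf_eq_top.mp h) v.2, congrArg Subtype.val h1,
      fun e => h2 (Subtype.ext e), congrArg Subtype.val h3, fun e => h4 (Subtype.ext e),
      fun e => h5 (Subtype.ext e), congrArg Subtype.val h6⟩

theorem dihedral_two_facts : (∀ x : DihedralGroup 2, x * x = 1) ∧
    HasPair (⊤ : Subgroup (DihedralGroup 2)) ∧ Nat.card (DihedralGroup 2) = 4 := by
  refine ⟨by decide, ⟨DihedralGroup.r 1, mem_top _, DihedralGroup.sr 0, mem_top _, by decide, by decide,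
    by decide, by decide, by decide, by decide⟩, ?_⟩
  rw [DihedralGroup.nat_card]

theorem card_perm_fin_five : Nat.card (Perm (Fin 5)) = 120 := by
  rw [Nat.card_perm, Nat.card_fin]; rfl

theorem card_perm_fin_four : Nat.card (Perm (Fin 4)) = 24 := by
  rw [Nat.card_perm, Nat.card_fin]; rfl

theorem card_alternating_five : Nat.card (alternatingGroup (Fin 5)) = 60 := by
  have h := two_mul_nat_card_alternatingGroup (α := Fin 5)
  rw [card_perm_fin_five] at h
  omega

theorem card_alternating_four : Nat.card (alternatingGroup (Fin 4)) = 12 := by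
  have h := two_mul_nat_card_alternatingGroup (α := Fin 4)
  rw [card_perm_fin_four] at h
  omega

theorem klein_in_five : ∀ g : alternatingGroup (Fin 5),
    (g = 1 ∨ g = ⟨swap 0 1 * swap 2 3, Equiv.Perm.mem_alternatingGroup.mpr (by decide)⟩ ∨ g = ⟨swap 0 2 * swap 1 3, Equiv.Perm.mem_alternatingGroup.mpr (by decide)⟩ ∨
      g = ⟨swap 0 3 * swap 1 2, Equiv.Perm.mem_alternatingGroup.mpr (by decide)⟩) ↔ (g : Perm (Fin 5)) 4 = 4 ∧ g * g = 1 := by
  decide +kernel

/-- The Klein four-subgroup of `A₅` fixing the last point. -/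
def kleinFive : Subgroup (alternatingGroup (Fin 5)) where
  carrier := {g | (g : Perm (Fin 5)) 4 = 4 ∧ g * g = 1}
  one_mem' := ⟨rfl, one_mul 1⟩
  mul_mem' := by
    have : ∀ a b : alternatingGroup (Fin 5), ((a : Perm (Fin 5)) 4 = 4 ∧ a * a = 1) →
        ((b : Perm (Fin 5)) 4 = 4 ∧ b * b = 1) →
        (((a * b : alternatingGroup (Fin 5)) : Perm (Fin 5)) 4 = 4 ∧ a * b * (a * b) = 1) := by
      intro a b ha hb
      rcases (klein_in_five a).mpr ha with rfl | rfl | rfl | rfl <;>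
        rcases (klein_in_five b).mpr hb with rfl | rfl | rfl | rfl <;> decide
    exact @fun a b ha hb => this a b ha hb
  inv_mem' := by
    intro a ha
    rw [show a⁻¹ = a from inv_eq_of_mul_eq_one_left ha.2]
    exact ha

theorem mem_kleinFive {g : alternatingGroup (Fin 5)} :
    g ∈ kleinFive ↔ (g : Perm (Fin 5)) 4 = 4 ∧ g * g = 1 := Iff.rfl

theorem card_kleinFive : Nat.card kleinFive = 4 := by
  have e : kleinFive ≃ {g : alternatingGroup (Fin 5) // (g : Perm (Fin 5)) 4 = 4 ∧ g * g = 1} :=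
    Equiv.refl _
  rw [Nat.card_congr e, Nat.card_eq_fintype_card]
  decide +kernel

theorem card_sylow_two_alternating_five : Nat.card (Sylow 2 (alternatingGroup (Fin 5))) = 5 := by
  have : Fact (Nat.Prime 2) := ⟨Nat.prime_two⟩
  have := isSimpleGroup_alternating_five
  have hfac : (Nat.card (alternatingGroup (Fin 5))).factorization 2 = 2 := by
    rw [card_alternating_five, show (60 : ℕ) = 2 ^ 2 * 15 from rfl,
      Nat.factorization_mul (by norm_num) (by norm_num), Finsupp.add_apply,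
      Nat.Prime.factorization_pow Nat.prime_two, Finsupp.single_eq_same,
      Nat.factorization_eq_zero_of_not_dvd (show ¬ (2 ∣ 15) by norm_num)]
  let P : Sylow 2 (alternatingGroup (Fin 5)) :=
    Sylow.ofCard kleinFive (by rw [card_kleinFive, hfac]; rfl)
  let g : alternatingGroup (Fin 5) := ⟨swap 0 1 * swap 1 2, Equiv.Perm.mem_alternatingGroup.mpr (by decide)⟩
  have hg : g ∈ normalizer (kleinFive : Set (alternatingGroup (Fin 5))) := by
    rw [mem_normalizer_iff]
    intro h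
    revert h
    simp only [mem_kleinFive]
    decide +kernel
  rw [P.card_eq_index_normalizer]
  show (normalizer (kleinFive : Set (alternatingGroup (Fin 5)))).index = 5
  set N := normalizer (kleinFive : Set (alternatingGroup (Fin 5))) with hN
  have hmul := card_mul_index N
  rw [card_alternating_five] at hmul
  have h4 : 4 ∣ Nat.card N := card_kleinFive ▸ card_dvd_of_le le_normalizer
  have h3 : 3 ∣ Nat.card N := by
    have h := Subgroup.orderOf_dvd_natCard N hg
    have hord : orderOf g = 3 := orderOf_eq_prime (by decide) (by decide)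
    rwa [hord] at h
  obtain ⟨k, hk⟩ : 12 ∣ Nat.card N := Nat.Coprime.mul_dvd_of_dvd_of_dvd (by norm_num) h4 h3
  have hne : N ≠ ⊤ := by
    intro h
    have hn : kleinFive.Normal := normalizer_eq_top_iff.mp h
    rcases hn.eq_bot_or_eq_top with e | e
    · have := card_kleinFive
      rw [e, card_bot] at this
      omega
    · have := card_kleinFive
      rw [e, card_top, card_alternating_five] at this
      omega
  have h1 : N.index ≠ 1 := fun h => hne (index_eq_one.mp h)
  rw [hk] at hmul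
  have h5 : k * N.index = 5 := by nlinarith
  rcases (Nat.dvd_prime Nat.prime_five).mp ⟨k, by rw [mul_comm, h5]⟩ with h | h
  · exact absurd h h1
  · exact h

end CfsgLib.ComplementQuotient
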