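import Cfsg.Agent.Lib.Coherence.Signed
import Cfsg.Agent.Lib.Frobenius.TI

/-!
# Exceptional characters
-/

set_option autoImplicit false

open scoped ComplexConjugate

namespace CfsgLib.Frobenius

open Cfsg CfsgLib.CharTheory

universe u

variable {G : Type u} [Group G] [Fintype G]

/-- A generalized character of norm `2` vanishing at `1` is a difference of two distinct
irreducible characters. -/
theorem exists_irr_sub_of_norm_two {θ : G → ℂ} (hθ : IsGeneralizedCharacter G θ)
    (h2 : classInner θ θ = 2) (h1 : θ 1 = 0) :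
    ∃ P M : G → ℂ, IsIrrCharacter G P ∧ IsIrrCharacter G M ∧ P ≠ M ∧ θ = P - M := by
  classical
  obtain ⟨s, hcard, hsum, hirr, hinner⟩ :=
    CfsgLib.Coherence.exists_signed_decomp hθ (k := 2) (by norm_num) (by rw [h2]; norm_num)
  obtain ⟨a, b, hab, rfl⟩ := Finset.card_eq_two.1 hcard
  rw [Finset.sum_pair hab] at hsum
  have hsum1 : a 1 + b 1 = 0 := by rw [← h1, hsum]; rfl
  have hne : ∀ {P M : G → ℂ}, classInner P M = 0 → IsIrrCharacter G P → P ≠ M := by
    rintro P M h hP rfl
    rw [classInner_self_of_isIrr hP] at h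
    exact one_ne_zero h
  have hab0 : classInner a b = 0 := by
    rw [hinner a (by simp) b (by simp), if_neg hab]
  have pos : ∀ {P Q : G → ℂ}, IsIrrCharacter G P → IsIrrCharacter G Q → P 1 + Q 1 ≠ 0 := by
    intro P Q hP hQ
    obtain ⟨m, hm, hPm⟩ := exists_degree_of_isIrr hP
    obtain ⟨k, -, hQk⟩ := exists_degree_of_isIrr hQ
    rw [hPm, hQk, ← Nat.cast_add]
    exact_mod_cast (by omega : m + k ≠ 0)
  rcases hirr a (by simp) with ha | ha <;> rcases hirr b (by simp) with hb | hb
  · exact absurd hsum1 (pos ha hb)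
  · refine ⟨a, -b, ha, hb, hne ?_ ha, by rw [hsum, sub_neg_eq_add]⟩
    rw [CfsgLib.Coherence.inner_neg_right, hab0, neg_zero]
  · refine ⟨b, -a, hb, ha, hne ?_ hb, by rw [hsum, sub_neg_eq_add, add_comm]⟩
    rw [CfsgLib.Coherence.inner_neg_right, classInner_conj_symm, hab0, map_zero, neg_zero]
  · refine absurd ?_ (pos ha hb)
    show -(a 1) + -(b 1) = 0
    rw [← neg_add, hsum1, neg_zero]

/-- The isometry lemma behind exceptional characters. -/
theorem exists_irr_family {ι : Type*} (i₀ : ι) (τ : ι → (G → ℂ)) (h0 : τ i₀ = 0)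
    (hgen : ∀ i, IsGeneralizedCharacter G (τ i)) (hone : ∀ i, τ i 1 = 0)
    (hdiag : ∀ i, i ≠ i₀ → classInner (τ i) (τ i) = 2)
    (hoff : ∀ i j, i ≠ i₀ → j ≠ i₀ → i ≠ j → classInner (τ i) (τ j) = 1) :
    ∃ ε : ℂ, (ε = 1 ∨ ε = -1) ∧ ∃ μ : ι → (G → ℂ), (∀ i, IsIrrCharacter G (μ i)) ∧
      Function.Injective μ ∧ ∀ i, τ i = ε • (μ i - μ i₀) := by
  classical
  choose P M hP hM hPM hτ using fun i : {i // i ≠ i₀} =>
    exists_irr_sub_of_norm_two (hgen i.1) (hdiag i.1 i.2) (hone i.1)
  have key : ∀ i j : {i // i ≠ i₀}, i ≠ j →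
      ((P i = P j ∧ M i ≠ M j) ∨ (P i ≠ P j ∧ M i = M j)) ∧ P i ≠ M j ∧ M i ≠ P j := by
    intro i j hij
    have h := hoff i j i.2 j.2 (fun e => hij (Subtype.ext e))
    rw [hτ i, hτ j, classInner_sub_left, classInner_sub_right, classInner_sub_right,
      classInner_irr (hP i) (hP j), classInner_irr (hP i) (hM j), classInner_irr (hM i) (hP j),
      classInner_irr (hM i) (hM j)] at h
    by_cases e1 : P i = P j
    · have e2 : P i ≠ M j := fun e => hPM j (e1.symm.trans e)
      have e3 : M i ≠ P j := fun e => hPM i (e1.trans e.symm)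
      rw [if_pos e1, if_neg e2, if_neg e3] at h
      by_cases e4 : M i = M j
      · rw [if_pos e4] at h; norm_num at h
      · exact ⟨Or.inl ⟨e1, e4⟩, e2, e3⟩
    · rw [if_neg e1] at h
      by_cases e4 : M i = M j
      · have e2 : P i ≠ M j := fun e => hPM i (e.trans e4.symm)
        have e3 : M i ≠ P j := fun e => hPM j (e.symm.trans e4)
        exact ⟨Or.inr ⟨e1, e4⟩, e2, e3⟩
      · rw [if_neg e4] at h
        split_ifs at h <;> norm_num at h
  -- all agree in the same member
  have hcase : (∀ i j, P i = P j) ∨ (∀ i j, M i = M j) := by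
    by_contra hc
    simp only [not_or, not_forall] at hc
    obtain ⟨⟨i, j, hij⟩, k, l, hkl⟩ := hc
    have ne1 : i ≠ j := fun e => hij (by rw [e])
    have ne2 : k ≠ l := fun e => hkl (by rw [e])
    have eM : M i = M j := ((key i j ne1).1.resolve_left fun h => hij h.1).2
    have eP : P k = P l := ((key k l ne2).1.resolve_right fun h => hkl h.2).1
    have hM_all : ∀ x, M x = M i := by
      intro x
      by_cases hx : x = i
      · rw [hx]
      by_cases hx' : x = j
      · rw [hx', eM]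
      rcases (key x i hx).1 with ⟨p1, -⟩ | ⟨-, m1⟩
      · rcases (key x j hx').1 with ⟨p2, -⟩ | ⟨-, m2⟩
        · exact absurd (p1.symm.trans p2) hij
        · exact m2.trans eM.symm
      · exact m1
    exact hkl ((hM_all k).trans (hM_all l).symm)
  by_cases hne : ∃ a, a ≠ i₀
  swap
  · push Not at hne
    refine ⟨1, Or.inl rfl, fun _ _ => 1, fun _ => isIrrCharacter_one,
      fun a b _ => (hne a).trans (hne b).symm, fun i => by rw [hne i, h0]; simp⟩
  obtain ⟨a, ha⟩ := hne
  rcases hcase with hc | hc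
  · refine ⟨-1, Or.inr rfl, fun i => if h : i = i₀ then P ⟨a, ha⟩ else M ⟨i, h⟩, fun i => ?_,
      fun i j e => ?_, fun i => ?_⟩
    · dsimp only
      split_ifs
      · exact hP _
      · exact hM _
    · simp only at e
      by_contra hij
      by_cases hi : i = i₀ <;> by_cases hj : j = i₀
      · exact hij (hi.trans hj.symm)
      · rw [dif_pos hi, dif_neg hj, hc _ ⟨j, hj⟩] at e; exact hPM _ e
      · rw [dif_neg hi, dif_pos hj, hc _ ⟨i, hi⟩] at e; exact hPM _ e.symm
      · rw [dif_neg hi, dif_neg hj] at e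
        rcases (key ⟨i, hi⟩ ⟨j, hj⟩ (fun q => hij (congrArg Subtype.val q))).1 with h | h
        · exact h.2 e
        · exact h.1 (hc _ _)
    · dsimp only
      by_cases hi : i = i₀
      · rw [hi, h0, sub_self, smul_zero]
      · rw [dif_neg hi, dif_pos rfl, hc ⟨a, ha⟩ ⟨i, hi⟩, neg_one_smul, neg_sub]
        exact hτ ⟨i, hi⟩
  · refine ⟨1, Or.inl rfl, fun i => if h : i = i₀ then M ⟨a, ha⟩ else P ⟨i, h⟩, fun i => ?_,
      fun i j e => ?_, fun i => ?_⟩
    · dsimp only
      split_ifs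
      · exact hM _
      · exact hP _
    · simp only at e
      by_contra hij
      by_cases hi : i = i₀ <;> by_cases hj : j = i₀
      · exact hij (hi.trans hj.symm)
      · rw [dif_pos hi, dif_neg hj, hc _ ⟨j, hj⟩] at e; exact hPM _ e.symm
      · rw [dif_neg hi, dif_pos hj, hc _ ⟨i, hi⟩] at e; exact hPM _ e
      · rw [dif_neg hi, dif_neg hj] at e
        rcases (key ⟨i, hi⟩ ⟨j, hj⟩ (fun q => hij (congrArg Subtype.val q))).1 with h | h
        · exact h.2 (hc _ _)
        · exact h.1 e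
    · dsimp only
      by_cases hi : i = i₀
      · rw [hi, h0, sub_self, smul_zero]
      · rw [dif_neg hi, dif_pos rfl, hc ⟨a, ha⟩ ⟨i, hi⟩, one_smul]
        exact hτ ⟨i, hi⟩

/-- Exceptional characters of a TI-set. -/
theorem exists_exceptional (H : Subgroup G) (S : Set G)
    (hTI : ∀ x : G, x ∉ H → ∀ s ∈ S, x⁻¹ * s * x ∈ S → s = 1) {ι : Type*} [Nonempty ι]
    (χ : ι → (H → ℂ)) (hirr : ∀ i, IsIrrCharacter H (χ i)) (hinj : Function.Injective χ)
    (hvan : ∀ i j, ∀ x : H, (x : G) ∉ S → χ i x = χ j x) (hdeg : ∀ i j, χ i 1 = χ j 1) :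
    ∃ ε : ℂ, (ε = 1 ∨ ε = -1) ∧ ∃ θ : ι → (G → ℂ), (∀ i, IsIrrCharacter G (θ i)) ∧
      Function.Injective θ ∧
      ∀ i j, indFun H (χ i) - indFun H (χ j) = ε • (θ i - θ j) := by
  classical
  have : Fintype H := Fintype.ofFinite _
  obtain ⟨i₀⟩ := ‹Nonempty ι›
  have hcl : ∀ i, IsClassFunction H (χ i - χ i₀) := fun i g h => by
    simp [IsIrrCharacter.isClassFunction (hirr i) g h, IsIrrCharacter.isClassFunction (hirr i₀) g h]
  have hsupp : ∀ i, ∀ x : H, (x : G) ∉ S → (χ i - χ i₀) x = 0 := fun i x hx => by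
    simp [hvan i i₀ x hx]
  have hgen : ∀ i, IsGeneralizedCharacter G (indFun H (χ i - χ i₀)) := fun i =>
    isGeneralizedCharacter_indFun H _ ⟨_, _, IsIrrCharacter.isCharacter (hirr i),
      IsIrrCharacter.isCharacter (hirr i₀), rfl⟩
  have hinner : ∀ i j, classInner (indFun H (χ i - χ i₀)) (indFun H (χ j - χ i₀))
      = (if i = j then 1 else 0) - (if i = i₀ then 1 else 0) - (if i₀ = j then 1 else 0) + 1 := by
    intro i j
    rw [classInner_indFun_indFun_of_ti H S hTI _ _ (hcl j) (hsupp i) (hsupp j) (by simp [hdeg j i₀]),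
      classInner_sub_left, classInner_sub_right, classInner_sub_right,
      classInner_irr (hirr i) (hirr j), classInner_irr (hirr i) (hirr i₀),
      classInner_irr (hirr i₀) (hirr j), classInner_self_of_isIrr (hirr i₀)]
    simp only [hinj.eq_iff]
    ring
  obtain ⟨ε, hε, μ, hμ, hμinj, hμeq⟩ := exists_irr_family i₀
    (fun i => indFun H (χ i - χ i₀)) (by simp [indFun_zero]) hgen
    (fun i => by simp [indFun_one, hdeg i i₀])
    (fun i hi => by rw [hinner, if_pos rfl, if_neg hi, if_neg (Ne.symm hi)]; norm_num)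
    (fun i j hi hj hij => by rw [hinner, if_neg hij, if_neg hi, if_neg (Ne.symm hj)]; norm_num)
  refine ⟨ε, hε, μ, hμ, hμinj, fun i j => ?_⟩
  rw [show μ i - μ j = (μ i - μ i₀) - (μ j - μ i₀) from by abel, smul_sub, ← hμeq i, ← hμeq j]
  simp only [indFun_sub]
  abel

end CfsgLib.Frobenius
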