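import Cfsg.Agent.Lib.Frobenius.SmallQuotientFacts
import Cfsg.Agent.Lib.TwoGroups.RankOne
import Cfsg.Agent.Lib.TwoGroups.Aut
import Cfsg.Agent.Lib.Balance.CentralizerCore
import Cfsg.Agent.Lib.Cores.PCore
import Cfsg.Agent.Lib.SmallGroups.Basic
import Cfsg.Agent.Lib.SL2.Basic
import Cfsg.Agent.S0253

/-!
The quotient of a Frobenius complement by its cyclic-Sylow kernel: existence and uniqueness.
-/

set_option autoImplicit false

open Cfsg
open scoped MatrixGroups

namespace CfsgLib.ComplementQuotient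

open Subgroup

/-- `K` is the kernel of a map onto `D₄`, `A₄`, `S₄`, `A₅` or `S₅`. -/
def SmallQuotient {X : Type*} [Group X] (K : Subgroup X) : Prop :=
  (∃ f : X →* DihedralGroup 2, Function.Surjective f ∧ f.ker = K) ∨
  (∃ f : X →* alternatingGroup (Fin 4), Function.Surjective f ∧ f.ker = K) ∨
  (∃ f : X →* Equiv.Perm (Fin 4), Function.Surjective f ∧ f.ker = K) ∨
  (∃ f : X →* alternatingGroup (Fin 5), Function.Surjective f ∧ f.ker = K) ∨
  (∃ f : X →* Equiv.Perm (Fin 5), Function.Surjective f ∧ f.ker = K)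

theorem SmallQuotient.comap {X Y : Type*} [Group X] [Group Y] {K : Subgroup Y} (h : SmallQuotient K)
    (π : X →* Y) (hπ : Function.Surjective π) : SmallQuotient (K.comap π) := by
  rcases h with ⟨f, hf, hk⟩ | ⟨f, hf, hk⟩ | ⟨f, hf, hk⟩ | ⟨f, hf, hk⟩ | ⟨f, hf, hk⟩
  · exact Or.inl ⟨f.comp π, hf.comp hπ, by rw [← hk, MonoidHom.comap_ker]⟩
  · exact Or.inr (Or.inl ⟨f.comp π, hf.comp hπ, by rw [← hk, MonoidHom.comap_ker]⟩)
  · exact Or.inr (Or.inr (Or.inl ⟨f.comp π, hf.comp hπ, by rw [← hk, MonoidHom.comap_ker]⟩))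
  · exact Or.inr (Or.inr (Or.inr (Or.inl ⟨f.comp π, hf.comp hπ, by rw [← hk, MonoidHom.comap_ker]⟩)))
  · exact Or.inr (Or.inr (Or.inr (Or.inr ⟨f.comp π, hf.comp hπ, by rw [← hk, MonoidHom.comap_ker]⟩)))

/-- A range of index one or two in a symmetric group is the whole group or the alternating group. -/
theorem exists_surjective_of_index {X : Type*} [Group X] {n : ℕ} (f : X →* Equiv.Perm (Fin n))
    (h : f.range.index = 1 ∨ f.range.index = 2) :
    (∃ g : X →* Equiv.Perm (Fin n), Function.Surjective g ∧ g.ker = f.ker) ∨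
    (∃ g : X →* alternatingGroup (Fin n), Function.Surjective g ∧ g.ker = f.ker) := by
  rcases h with h | h
  · exact Or.inl ⟨f, MonoidHom.range_eq_top.mp (index_eq_one.mp h), rfl⟩
  · have he := Equiv.Perm.eq_alternatingGroup_of_index_eq_two h
    refine Or.inr ⟨f.codRestrict (alternatingGroup (Fin n)) fun x => he ▸ ⟨x, rfl⟩, ?_,
      MonoidHom.ker_codRestrict _ _ _⟩
    rintro ⟨y, hy⟩
    obtain ⟨x, rfl⟩ : y ∈ f.range := he ▸ hy
    exact ⟨x, rfl⟩

section Involutions

variable {X : Type*} [Group X] [Finite X]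

theorem uniqueOrderP_two (hinv : ∀ a b : X, a * a = 1 → a ≠ 1 → b * b = 1 → b ≠ 1 → a = b) :
    CfsgLib.TwoGroups.UniqueOrderP 2 X := by
  intro a b ha hb
  have key : ∀ c : X, orderOf c = 2 → c * c = 1 ∧ c ≠ 1 := fun c hc =>
    ⟨by rw [← pow_two, ← hc, pow_orderOf_eq_one], fun h => by rw [h, orderOf_one] at hc; omega⟩
  rw [hinv b a (key b hb).1 (key b hb).2 (key a ha).1 (key a ha).2]
  exact mem_zpowers a

theorem inv_unique_quotient (hinv : ∀ a b : X, a * a = 1 → a ≠ 1 → b * b = 1 → b ≠ 1 → a = b)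
    (O : Subgroup X) [O.Normal] (hO : Odd (Nat.card O)) :
    ∀ a b : X ⧸ O, a * a = 1 → a ≠ 1 → b * b = 1 → b ≠ 1 → a = b := by
  suffices key : ∀ a : X ⧸ O, a * a = 1 → a ≠ 1 →
      ∃ u : X, u * u = 1 ∧ u ≠ 1 ∧ (u : X ⧸ O) = a by
    intro a b h1 h2 h3 h4
    obtain ⟨u, hu, hu', rfl⟩ := key a h1 h2
    obtain ⟨v, hv, hv', rfl⟩ := key b h3 h4
    rw [hinv u v hu hu' hv hv']
  intro a h1 h2
  obtain ⟨g, rfl⟩ := QuotientGroup.mk_surjective a
  have hmem : g ^ 2 ∈ O := by
    rw [← QuotientGroup.eq_one_iff, pow_two]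
    exact h1
  have hk : (g ^ 2) ^ Nat.card O = 1 := by
    have h := congrArg (fun y : O => (y : X)) (pow_card_eq_one' (G := O) (x := ⟨g ^ 2, hmem⟩))
    exact (SubgroupClass.coe_pow (⟨g ^ 2, hmem⟩ : O) _).symm.trans h
  refine ⟨g ^ Nat.card O, ?_, ?_, ?_⟩
  · rw [← pow_two, ← pow_mul, mul_comm, pow_mul, hk]
  all_goals
    obtain ⟨j, hj⟩ := hO
    have hpow : ((g ^ Nat.card O : X) : X ⧸ O) = (g : X ⧸ O) := by
      rw [hj, QuotientGroup.mk_pow, pow_succ, pow_mul, pow_two, h1, one_pow, one_mul]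
  · intro h
    rw [h] at hpow
    exact h2 hpow.symm
  · exact hpow

theorem isCyclic_of_card_dvd_four (hinv : ∀ a b : X, a * a = 1 → a ≠ 1 → b * b = 1 → b ≠ 1 → a = b)
    {H : Subgroup X} (h : Nat.card H ∣ 4) : IsCyclic H := by
  have : Fact (Nat.Prime 2) := ⟨Nat.prime_two⟩
  have hp : IsPGroup 2 H := by
    obtain ⟨i, -, hi⟩ := (Nat.dvd_prime_pow Nat.prime_two).mp (show Nat.card H ∣ 2 ^ 2 from h)
    exact IsPGroup.of_card hi
  rcases CfsgLib.TwoGroups.isCyclic_or_quaternion hp
    ((uniqueOrderP_two hinv).of_injective H.subtype H.subtype_injective) with hc | ⟨-, m, hm, ⟨e⟩⟩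
  · exact hc
  · exfalso
    have : NeZero (2 ^ m) := ⟨pow_ne_zero _ two_ne_zero⟩
    rw [Nat.card_congr e.toEquiv, Nat.card_eq_fintype_card, QuaternionGroup.card] at h
    have := Nat.le_of_dvd (by norm_num) h
    have : 2 ≤ 2 ^ m := Nat.le_self_pow (by omega) 2
    omega

end Involutions

/-! ### Uniqueness -/

section Pairs

variable {T : Type*} [Group T] [Finite T]

theorem not_hasPair_of_isCyclic_sylow [Fact (Nat.Prime 2)] (hS : ∀ P : Sylow 2 T, IsCyclic P)
    (J : Subgroup T) : ¬ HasPair J := by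
  rintro ⟨u, -, v, -, hu, hu1, hv, hv1, hne, huv⟩
  have hou : orderOf u = 2 := orderOf_eq_prime (by rw [pow_two, hu]) hu1
  have hov : orderOf v = 2 := orderOf_eq_prime (by rw [pow_two, hv]) hv1
  have h1 : IsPGroup 2 (zpowers u) := IsPGroup.of_card (n := 1) (by rw [Nat.card_zpowers, hou, pow_one])
  have h2 : IsPGroup 2 (zpowers v) := IsPGroup.of_card (n := 1) (by rw [Nat.card_zpowers, hov, pow_one])
  have hnorm : zpowers v ≤ normalizer (zpowers u : Set T) := by
    refine le_trans ?_ (centralizer_le_normalizer _)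
    rw [zpowers_le, mem_centralizer_iff]
    intro y hy
    obtain ⟨i, rfl⟩ := mem_zpowers_iff.mp hy
    exact (Commute.zpow_left (show Commute u v from huv) i).eq
  obtain ⟨P, hP⟩ := (h2.to_sup_of_normal_right' h1 hnorm).exists_le_sylow
  have := hS P
  have huP : u ∈ (P : Subgroup T) := hP (mem_sup_right (mem_zpowers u))
  have hvP : v ∈ (P : Subgroup T) := hP (mem_sup_left (mem_zpowers v))
  have h : zpowers u = zpowers v := CfsgLib.BGAppendix.eq_of_card_eq_of_le_cyclic (P : Subgroup T) _ _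
    (hS P) (zpowers_le.mpr huP) (zpowers_le.mpr hvP) (by rw [Nat.card_zpowers, Nat.card_zpowers, hou, hov])
  have hvu : v ∈ zpowers u := h ▸ mem_zpowers v
  obtain ⟨i, hi⟩ := mem_zpowers_iff.mp hvu
  rcases Int.even_or_odd i with ⟨j, rfl⟩ | ⟨j, rfl⟩
  · rw [← two_mul, zpow_mul, zpow_two, hu, one_zpow] at hi
    exact hv1 hi.symm
  · rw [zpow_add, zpow_mul, zpow_two, hu, one_zpow, one_mul, zpow_one] at hi
    exact hne hi

theorem isCyclic_sylow_of_surjective {G : Type*} [Group G] [Finite G] {p : ℕ} [Fact p.Prime]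
    (f : G →* T) (hf : Function.Surjective f) (hS : ∀ P : Sylow p G, IsCyclic P) (R : Sylow p T) :
    IsCyclic R := by
  obtain ⟨P, rfl⟩ := Sylow.mapSurjective_surjective hf p R
  have := hS P
  rw [Sylow.coe_mapSurjective]
  exact isCyclic_of_surjective _ (MonoidHom.subgroupMap_surjective f (P : Subgroup G))

end Pairs

section Unique

variable {G : Type*} [Group G] [Finite G]

/-- All Sylow subgroups of `N` are cyclic (for the prime 2 only). -/
theorem hasPair_of_smallQuotient {N : Subgroup G} (h : SmallQuotient N) :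
    ∃ (T : Type) (_ : Group T) (_ : Finite T) (f : G →* T), Function.Surjective f ∧ f.ker = N ∧
      HasPair (⊤ : Subgroup T) ∧ ((FatNormals T ∧ 12 ≤ Nat.card T) ∨
        (Nat.card T = 4 ∧ ∀ x : T, x * x = 1)) := by
  have top_pair : ∀ {T : Type} [Group T], FatNormals T → (∃ x : T, x ≠ 1) → HasPair (⊤ : Subgroup T) :=
    fun {T} _ hfat ⟨x, hx⟩ => hfat ⊤ inferInstance (fun e => hx (mem_bot.mp (e ▸ mem_top x)))
  rcases h with ⟨f, hf, hk⟩ | ⟨f, hf, hk⟩ | ⟨f, hf, hk⟩ | ⟨f, hf, hk⟩ | ⟨f, hf, hk⟩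
  · exact ⟨_, _, inferInstance, f, hf, hk, dihedral_two_facts.2.1,
      Or.inr ⟨dihedral_two_facts.2.2, dihedral_two_facts.1⟩⟩
  · exact ⟨_, _, inferInstance, f, hf, hk, top_pair fatNormals_alternating_four (exists_ne 1),
      Or.inl ⟨fatNormals_alternating_four, by rw [card_alternating_four]⟩⟩
  · exact ⟨_, _, inferInstance, f, hf, hk, top_pair fatNormals_perm_four (exists_ne 1),
      Or.inl ⟨fatNormals_perm_four, by rw [card_perm_fin_four]; norm_num⟩⟩
  · exact ⟨_, _, inferInstance, f, hf, hk, top_pair fatNormals_alternating_five (exists_ne 1),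
      Or.inl ⟨fatNormals_alternating_five, by rw [card_alternating_five]; norm_num⟩⟩
  · exact ⟨_, _, inferInstance, f, hf, hk, top_pair fatNormals_perm_five (exists_ne 1),
      Or.inl ⟨fatNormals_perm_five, by rw [card_perm_fin_five]; norm_num⟩⟩

/-- At most one normal subgroup with cyclic Sylow subgroups has one of the small quotients. -/
theorem eq_of_smallQuotient [Fact (Nat.Prime 2)] (hgen : ∀ P : Sylow 2 G, ∃ a b : (P : Subgroup G),
      Subgroup.closure ({a, b} : Set (P : Subgroup G)) = ⊤)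
    {N₁ N₂ : Subgroup G} [N₁.Normal] [N₂.Normal]
    (hc₁ : ∀ P : Sylow 2 N₁, IsCyclic P) (hc₂ : ∀ P : Sylow 2 N₂, IsCyclic P)
    (h₁ : N₁ = ⊤ ∨ SmallQuotient N₁) (h₂ : N₂ = ⊤ ∨ SmallQuotient N₂) : N₁ = N₂ := by
  have key : ∀ (A B : Subgroup G), B.Normal → (∀ P : Sylow 2 B, IsCyclic P) →
      (∀ (T : Type) (_ : Group T) (_ : Finite T) (f : G →* T), Function.Surjective f → f.ker = A →
        FatNormals T → B ≤ A) := by
    intro A B hB hcB T _ _ f hf hk hfat
    by_contra hle
    have hne : B.map f ≠ ⊥ := fun h => hle (hk ▸ (Subgroup.map_eq_bot_iff B).mp h)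
    obtain ⟨u, hu, v, hv, h⟩ := hfat _ (hB.map f hf) hne
    refine not_hasPair_of_isCyclic_sylow (T := ↥(B.map f))
      (isCyclic_sylow_of_surjective (f.subgroupMap B) (f.subgroupMap_surjective B) hcB) ⊤ ?_
    exact ⟨⟨u, hu⟩, mem_top _, ⟨v, hv⟩, mem_top _, Subtype.ext h.1, fun e => h.2.1 (congrArg Subtype.val e),
      Subtype.ext h.2.2.1, fun e => h.2.2.2.1 (congrArg Subtype.val e),
      fun e => h.2.2.2.2.1 (congrArg Subtype.val e), Subtype.ext h.2.2.2.2.2⟩
  have topcase : ∀ (A B : Subgroup G), (∀ P : Sylow 2 A, IsCyclic P) → A = ⊤ → SmallQuotient B → False := by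
    intro A B hA hAt hB
    obtain ⟨T, _, _, f, hf, -, hp, -⟩ := hasPair_of_smallQuotient hB
    have hG : ∀ P : Sylow 2 G, IsCyclic P := isCyclic_sylow_of_surjective A.subtype
      (fun g => ⟨⟨g, hAt ▸ mem_top g⟩, rfl⟩) hA
    exact not_hasPair_of_isCyclic_sylow (isCyclic_sylow_of_surjective f hf hG) ⊤ hp
  rcases h₁ with h₁ | h₁ <;> rcases h₂ with h₂ | h₂
  · rw [h₁, h₂]
  · exact (topcase N₁ N₂ hc₁ h₁ h₂).elim
  · exact (topcase N₂ N₁ hc₂ h₂ h₁).elim
  obtain ⟨T₁, _, _, f₁, hf₁, hk₁, -, h₁'⟩ := hasPair_of_smallQuotient h₁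
  obtain ⟨T₂, _, _, f₂, hf₂, hk₂, -, h₂'⟩ := hasPair_of_smallQuotient h₂
  have hi₁ : N₁.index = Nat.card T₁ := by
    rw [← hk₁, index_ker, MonoidHom.range_eq_top.mpr hf₁, card_top]
  have hi₂ : N₂.index = Nat.card T₂ := by
    rw [← hk₂, index_ker, MonoidHom.range_eq_top.mpr hf₂, card_top]
  rcases h₁' with ⟨hfat₁, hbig₁⟩ | ⟨hfour₁, hsq₁⟩ <;> rcases h₂' with ⟨hfat₂, hbig₂⟩ | ⟨hfour₂, hsq₂⟩
  · exact le_antisymm (key N₂ N₁ inferInstance hc₁ T₂ _ inferInstance f₂ hf₂ hk₂ hfat₂)
      (key N₁ N₂ inferInstance hc₂ T₁ _ inferInstance f₁ hf₁ hk₁ hfat₁)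
  · have := Nat.le_of_dvd (by omega) (index_dvd_of_le (key N₁ N₂ inferInstance hc₂ T₁ _ inferInstance f₁ hf₁ hk₁ hfat₁))
    omega
  · have := Nat.le_of_dvd (by omega) (index_dvd_of_le (key N₂ N₁ inferInstance hc₁ T₂ _ inferInstance f₂ hf₂ hk₂ hfat₂))
    omega
  · let F : G →* T₁ × T₂ := f₁.prod f₂
    obtain ⟨P⟩ := (inferInstance : Nonempty (Sylow 2 G))
    obtain ⟨a, b, hab⟩ := hgen P
    let R := F.range
    have hsqR : ∀ x : R, x * x = 1 := fun x =>
      Subtype.ext (Prod.ext (hsq₁ (x : T₁ × T₂).1) (hsq₂ (x : T₁ × T₂).2))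
    have hcomm : ∀ x y : R, x * y = y * x := fun x y => by
      have hinv : ∀ z : R, z⁻¹ = z := fun z => inv_eq_of_mul_eq_one_left (hsqR z)
      rw [← hinv (x * y), mul_inv_rev, hinv, hinv]
    have hpR : IsPGroup 2 R := fun x => ⟨1, by rw [pow_one, pow_two, hsqR]⟩
    have hsurjR : Function.Surjective F.rangeRestrict := F.rangeRestrict_surjective
    let FP : (P : Subgroup G) →* R := F.rangeRestrict.comp (P : Subgroup G).subtype
    have hFP : FP.range = ⊤ := by
      have h := (CfsgLib.Cores.pCore_eq_top_iff.mpr hpR).ge.trans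
        (CfsgLib.Cores.pCore_le_sylow (P.mapSurjective hsurjR))
      rw [Sylow.coe_mapSurjective] at h
      rw [MonoidHom.range_comp, range_subtype]
      exact top_le_iff.mp h
    have hR4 : Nat.card R ≤ 4 := by
      classical
      let S : Finset R := {1, FP a, FP b, FP a * FP b}
      have hcl : ∀ x ∈ Subgroup.closure ({FP a, FP b} : Set R), x ∈ S := by
        intro x hx
        induction hx using Subgroup.closure_induction with
        | mem x hx => rcases hx with rfl | rfl <;> simp [S]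
        | one => simp [S]
        | mul x y _ _ hx hy =>
          simp only [S, Finset.mem_insert, Finset.mem_singleton] at hx hy ⊢
          have ha := hsqR (FP a)
          have hb := hsqR (FP b)
          have e1 : FP b * FP a = FP a * FP b := hcomm _ _
          have e2 : FP a * (FP a * FP b) = FP b := by rw [← mul_assoc, ha, one_mul]
          have e3 : FP a * FP b * FP b = FP a := by rw [mul_assoc, hb, mul_one]
          have e4 : FP b * (FP a * FP b) = FP a := by rw [hcomm, e3]
          have e5 : FP a * FP b * FP a = FP b := by rw [hcomm, e2]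
          have e6 : FP a * FP b * (FP a * FP b) = 1 := hsqR _
          rcases hx with rfl | rfl | rfl | rfl <;> rcases hy with rfl | rfl | rfl | rfl <;>
            simp only [one_mul, mul_one, ha, hb, e1, e2, e3, e4, e5, e6, true_or, or_true]
        | inv x _ hx => rwa [inv_eq_of_mul_eq_one_left (hsqR x)]
      have htop : Subgroup.closure ({FP a, FP b} : Set R) = ⊤ := by
        rw [← hFP, MonoidHom.range_eq_map, ← hab, MonoidHom.map_closure, Set.image_pair]
      calc Nat.card R = Nat.card (⊤ : Subgroup R) := card_top.symm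
        _ ≤ Nat.card (S : Set R) := Nat.card_le_card_of_injective
            (fun x => ⟨x.1, hcl x.1 (Subgroup.eq_top_iff' _ |>.mp htop x.1)⟩) fun x y h => Subtype.ext (congrArg (fun z : (S : Set R) => (z : R)) h)
        _ = S.card := by simp
        _ ≤ 4 := Finset.card_le_four
    have hkerF : F.ker = N₁ ⊓ N₂ := by rw [MonoidHom.ker_prod, hk₁, hk₂]
    have hidx : (N₁ ⊓ N₂).index ≤ 4 := by rw [← hkerF, index_ker]; exact hR4
    have h1 : N₁ ⊓ N₂ = N₁ := by
      refine eq_of_le_of_card_ge inf_le_left ?_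
      have hm1 := card_mul_index (N₁ ⊓ N₂)
      have hm2 := card_mul_index N₁
      rw [hi₁, hfour₁] at hm2
      nlinarith
    have h2 : N₁ ⊓ N₂ = N₂ := by
      refine eq_of_le_of_card_ge inf_le_right ?_
      have hm1 := card_mul_index (N₁ ⊓ N₂)
      have hm2 := card_mul_index N₂
      rw [hi₂, hfour₂] at hm2
      nlinarith
    exact h1.symm.trans h2

end Unique

/-! ### The soluble case -/

section Quaternion

theorem quaternion_closure (n : ℕ) :
    Subgroup.closure ({QuaternionGroup.a 1, QuaternionGroup.xa 0} : Set (QuaternionGroup n)) = ⊤ := by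
  rw [eq_top_iff]
  intro x _
  have ha : ∀ i : ZMod (2 * n), QuaternionGroup.a i ∈
      Subgroup.closure ({QuaternionGroup.a 1, QuaternionGroup.xa 0} : Set (QuaternionGroup n)) := by
    intro i
    obtain ⟨z, rfl⟩ := ZMod.intCast_surjective i
    have hz : (QuaternionGroup.a 1 : QuaternionGroup n) ^ z = QuaternionGroup.a (z : ZMod (2 * n)) := by
      induction z using Int.induction_on with
      | zero => simp
      | succ k ih => rw [zpow_add_one, ih, QuaternionGroup.a_mul_a]; push_cast; ring_nf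
      | pred k ih =>
        rw [zpow_sub_one, ih, show (QuaternionGroup.a 1 : QuaternionGroup n)⁻¹ = QuaternionGroup.a (-1) from rfl,
          QuaternionGroup.a_mul_a]
        push_cast; ring_nf
    rw [← hz]
    exact zpow_mem (subset_closure (Set.mem_insert _ _)) z
  rcases x with i | i
  · exact ha i
  · rw [show (QuaternionGroup.xa i : QuaternionGroup n) = QuaternionGroup.xa 0 * QuaternionGroup.a i by
      rw [QuaternionGroup.xa_mul_a, zero_add]]
    exact mul_mem (subset_closure (Set.mem_insert_of_mem _ rfl)) (ha i)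

/-- The subgroup of squares of a quaternion group, with its basic properties. -/
theorem quaternion_squares {R : Type*} [Group R] [Finite R] {m : ℕ} (hm : 1 ≤ m)
    (e : R ≃* QuaternionGroup (2 ^ m)) : ∃ Φ : Subgroup R, IsCyclic Φ ∧ Φ.index = 4 ∧
      (∀ x : R, x ∈ Φ ↔ ∃ r : R, r * r = x) ∧
      ∃ a b : R, ∀ C : Subgroup R, (∃ φ ∈ Φ, a * φ ∈ C) → (∃ φ ∈ Φ, b * φ ∈ C) → C = ⊤ := by
  have : NeZero (2 ^ m) := ⟨pow_ne_zero _ two_ne_zero⟩
  set n := 2 ^ m with hn
  set A : R := e.symm (QuaternionGroup.a 1) with hA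
  have hordA : orderOf A = 2 * n := by
    rw [hA, MulEquiv.orderOf_eq, QuaternionGroup.orderOf_a_one]
  have hcard : Nat.card R = 4 * n := by
    rw [Nat.card_congr e.toEquiv, Nat.card_eq_fintype_card, QuaternionGroup.card]
  have hapow : ∀ k : ℕ, e (A ^ k) = QuaternionGroup.a (k : ZMod (2 * n)) := fun k => by
    rw [map_pow, hA, MulEquiv.apply_symm_apply, QuaternionGroup.a_one_pow]
  refine ⟨zpowers (A ^ 2), inferInstance, ?_, ?_, A, e.symm (QuaternionGroup.xa 0), ?_⟩
  · have h := card_mul_index (zpowers (A ^ 2))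
    rw [Nat.card_zpowers, orderOf_pow' A two_ne_zero, hordA, Nat.gcd_eq_right (dvd_mul_right 2 n),
      Nat.mul_div_cancel_left _ two_pos, hcard] at h
    exact Nat.eq_of_mul_eq_mul_left (Nat.pos_of_ne_zero (NeZero.ne n)) (h.trans (by ring))
  · intro x
    constructor
    · intro hx
      obtain ⟨i, rfl⟩ := mem_zpowers_iff.mp hx
      exact ⟨A ^ i, by rw [← zpow_add, ← zpow_natCast A 2, ← zpow_mul]; ring_nf⟩
    · rintro ⟨r, rfl⟩
      rcases hr : e r with i | i
      · have : r * r = (A ^ 2) ^ i.val := by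
          apply e.injective
          rw [map_mul, hr, ← pow_mul, hapow, QuaternionGroup.a_mul_a]
          congr 1
          push_cast
          rw [ZMod.natCast_val, ZMod.cast_id', id_eq]
          ring
        rw [this]
        exact pow_mem (mem_zpowers _) _
      · have : r * r = (A ^ 2) ^ 2 ^ (m - 1) := by
          apply e.injective
          rw [map_mul, hr, ← pow_mul, hapow, QuaternionGroup.xa_mul_xa]
          congr 1
          rw [add_sub_cancel_right]
          congr 1
          rw [hn, ← pow_succ', Nat.sub_add_cancel hm]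
        rw [this]
        exact pow_mem (mem_zpowers _) _
  · rintro C ⟨φ, hφ, hC⟩ ⟨ψ, hψ, hC'⟩
    obtain ⟨i, rfl⟩ := mem_zpowers_iff.mp hφ
    have hgen : zpowers (A * (A ^ 2) ^ i) = zpowers A := by
      have hco : Nat.Coprime (1 + 2 * i).natAbs (orderOf A) := by
        rw [hordA, hn, ← pow_succ']
        refine Nat.Coprime.pow_right _ (Nat.coprime_two_right.mpr ?_)
        rw [Int.natAbs_odd]
        exact ⟨i, by ring⟩
      have hz : A * (A ^ 2) ^ i = A ^ (1 + 2 * i) := by
        rw [zpow_add, zpow_one, ← zpow_natCast A 2, ← zpow_mul]; rfl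
      refine eq_of_le_of_card_ge (zpowers_le.mpr (mul_mem (mem_zpowers A)
        (zpow_mem (pow_mem (mem_zpowers A) 2) i))) ?_
      rw [Nat.card_zpowers, Nat.card_zpowers, hz]
      refine le_of_eq ?_
      rcases Int.natAbs_eq (1 + 2 * i) with h | h <;> rw [h] <;>
        simp only [zpow_neg, orderOf_inv, zpow_natCast] <;> exact (Nat.Coprime.orderOf_pow hco.symm).symm
    have hA' : A ∈ C := by
      have : zpowers A ≤ C := hgen ▸ zpowers_le.mpr hC
      exact this (mem_zpowers A)
    have hb : e.symm (QuaternionGroup.xa 0) ∈ C := by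
      obtain ⟨j, rfl⟩ := mem_zpowers_iff.mp hψ
      exact (C.mul_mem_cancel_right (zpow_mem (pow_mem hA' 2) j)).mp hC'
    rw [eq_top_iff]
    intro r _
    have h : e r ∈ C.map e.toMonoidHom := by
      have hle : Subgroup.closure ({QuaternionGroup.a 1, QuaternionGroup.xa 0} : Set (QuaternionGroup n)) ≤
          C.map e.toMonoidHom := by
        rw [closure_le]
        rintro _ (rfl | rfl)
        · exact ⟨A, hA', e.apply_symm_apply _⟩
        · exact ⟨_, hb, e.apply_symm_apply _⟩
      exact hle (quaternion_closure n ▸ mem_top _)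
    obtain ⟨c, hc, hce⟩ := h
    rwa [← e.injective hce]

end Quaternion

section Soluble

variable {Y : Type*} [Group Y] [Finite Y]

theorem four_group_quotient {V : Subgroup Y} [V.Normal] (hV : Nat.card V = 4)
    (hsq : ∀ v ∈ V, v * v = 1) (hC : centralizer (V : Set Y) = V)
    (h2 : IsPGroup 2 Y → V = ⊤) : SmallQuotient (⊥ : Subgroup Y) := by
  have hnt : ∀ v : V, (MulAut.conjNormal : Y →* MulAut V) v = 1 := fun v => by
    ext w
    rw [MulAut.conjNormal_apply, MulAut.one_apply]
    exact mul_inv_eq_iff_eq_mul.mpr (mem_centralizer_iff.mp (hC.ge v.2) w w.2).symm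
  have hker : (MulAut.conjNormal : Y →* MulAut V).ker = V := by
    refine le_antisymm (fun g hg => hC.le (mem_centralizer_iff.mpr fun w hw => ?_))
      fun v hv => MonoidHom.mem_ker.mpr (hnt ⟨v, hv⟩)
    have h := congrArg (fun φ : MulAut V => ((φ ⟨w, hw⟩ : V) : Y)) (MonoidHom.mem_ker.mp hg)
    simp only [MulAut.conjNormal_apply, MulAut.one_apply] at h
    exact (mul_inv_eq_iff_eq_mul.mp h).symm
  have hidx6 : V.index ∣ 6 := by
    let β : MulAut V →* Equiv.Perm {v : V // v ≠ 1} :=
      { toFun := fun φ => φ.toEquiv.subtypeEquiv fun v => (map_ne_one_iff φ φ.injective).symm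
        map_one' := rfl
        map_mul' := fun _ _ => rfl }
    have hβ : Function.Injective β := by
      intro φ ψ h
      ext v
      rcases eq_or_ne v 1 with rfl | hv
      · rw [map_one, map_one]
      · exact congrArg (fun q : {v : V // v ≠ 1} => ((q : V) : Y)) (Equiv.ext_iff.mp h ⟨v, hv⟩)
    have hc3 : Nat.card {v : V // v ≠ 1} = 3 := by
      classical
      have := Fintype.ofFinite V
      rw [Nat.card_eq_fintype_card, Fintype.card_subtype_compl, Fintype.card_subtype_eq,
        ← Nat.card_eq_fintype_card, hV]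
    rw [← hker, index_ker]
    refine (card_subgroup_dvd_card _).trans ((card_dvd_of_injective β hβ).trans ?_)
    rw [Nat.card_perm, hc3]
    exact dvd_of_eq rfl
  have hmul := card_mul_index V
  rw [hV] at hmul
  have hle6 := Nat.le_of_dvd (by norm_num) hidx6
  by_cases h3 : 3 ∣ Nat.card Y
  swap
  · have hVtop : V = ⊤ := h2 (by
      have hidx : V.index = 1 ∨ V.index = 2 := by
        interval_cases hvi : V.index <;> omega
      rcases hidx with hi | hi
      · exact IsPGroup.of_card (n := 2) (by rw [← hmul, hi]; norm_num)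
      · exact IsPGroup.of_card (n := 3) (by rw [← hmul, hi]; norm_num))
    have hY4 : Nat.card Y = 4 := by rw [← card_top, ← hVtop, hV]
    have : Nontrivial Y := Finite.one_lt_card_iff_nontrivial.mp (by omega)
    have hK : IsKleinFour Y := ⟨hY4, Monoid.exponent_eq_prime_iff Nat.prime_two |>.mpr fun y hy =>
      orderOf_eq_prime (by rw [pow_two]; exact hsq y (hVtop ▸ mem_top y)) hy⟩
    obtain ⟨e⟩ : Nonempty (Y ≃* DihedralGroup 2) := by
      classical
      have : Fintype Y := Fintype.ofFinite Y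
      have hc : Fintype.card Y = Fintype.card (DihedralGroup 2) := by
        rw [← Nat.card_eq_fintype_card, hY4, DihedralGroup.card]
      let e0 := Fintype.equivOfCardEq hc
      refine ⟨IsKleinFour.mulEquiv' (e0.trans (Equiv.swap (e0 1) 1)) ?_ IsKleinFour.exponent_two⟩
      simp
    exact Or.inl ⟨e.toMonoidHom, e.surjective, (MonoidHom.ker_eq_bot_iff _).mpr e.injective⟩
  have : Fact (Nat.Prime 3) := ⟨Nat.prime_three⟩
  have hidx : V.index = 3 ∨ V.index = 6 := by
    obtain ⟨d, hd⟩ := h3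
    interval_cases hvi : V.index <;> omega
  obtain ⟨P⟩ := (inferInstance : Nonempty (Sylow 3 Y))
  have hP : Nat.card (P : Subgroup Y) = 3 := by
    rcases hidx with hi | hi <;> rw [hi] at hmul
    · simpa using CfsgLib.SmallGroups.card_sylow_eq (a := 1) (m := 4) (by rw [← hmul]; norm_num) (by norm_num) P
    · simpa using CfsgLib.SmallGroups.card_sylow_eq (a := 1) (m := 8) (by rw [← hmul]; norm_num) (by norm_num) P
  have hdisj : Disjoint (P : Subgroup Y) V := by
    rw [disjoint_iff]
    exact inf_eq_bot_of_coprime (by rw [hP, hV]; norm_num)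
  -- an element of `V` centralised by `P` is trivial
  have hfpf : ∀ v ∈ V, (∀ y ∈ (P : Subgroup Y), y * v = v * y) → v = 1 := by
    intro v hv hcomm
    by_contra hv1
    obtain ⟨⟨y, hy⟩, hy3⟩ := exists_prime_orderOf_dvd_card' (G := (P : Subgroup Y)) 3 (dvd_of_eq hP.symm)
    rw [orderOf_mk] at hy3
    have hy3' : y ^ 3 = 1 := hy3 ▸ pow_orderOf_eq_one y
    have hyV : y ∈ centralizer (V : Set Y) := by
      rw [mem_centralizer_iff]
      intro w hw
      have hw' : y * w * y⁻¹ ∈ V := (inferInstance : V.Normal).conj_mem w hw y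
      -- the four elements
      have hfour : ∀ u ∈ V, w ≠ 1 → w ≠ v → u = 1 ∨ u = v ∨ u = w ∨ u = v * w := by
        intro u hu hw1 hwv
        classical
        have := Fintype.ofFinite V
        by_contra hne
        push Not at hne
        let S : Finset V := {1, ⟨v, hv⟩, ⟨w, hw⟩, ⟨v * w, mul_mem hv hw⟩, ⟨u, hu⟩}
        have hvw1 : v * w ≠ 1 := fun h => hwv (mul_left_cancel (h.trans (hsq v hv).symm))
        have hS : S.card = 5 := by
          simp only [S]
          rw [Finset.card_insert_of_notMem, Finset.card_insert_of_notMem, Finset.card_insert_of_notMem,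
            Finset.card_insert_of_notMem, Finset.card_singleton]
          all_goals simp [Subtype.ext_iff, hw1.symm, hwv.symm, hne.1, hne.2.1, hne.2.2.1, hne.2.2.2,
            hne.1.symm, hne.2.1.symm, hne.2.2.1.symm, hne.2.2.2.symm, Ne.symm hv1, hvw1.symm, hw1, hv1]
        have := Finset.card_le_univ S
        rw [hS, ← Nat.card_eq_fintype_card, hV] at this
        omega
      rcases eq_or_ne w 1 with rfl | hw1
      · simp
      rcases eq_or_ne w v with rfl | hwv
      · exact (hcomm y hy).symm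
      have hyv : y * v * y⁻¹ = v := mul_inv_eq_iff_eq_mul.mpr (hcomm y hy)
      have hswap : ∀ u, y * u * y⁻¹ = v → u = v := fun u h =>
        (MulAut.conj y).injective (show MulAut.conj y u = MulAut.conj y v from h.trans hyv.symm)
      rcases hfour _ hw' hw1 hwv with h | h | h | h
      · exact absurd (conj_eq_one_iff.mp h) hw1
      · exact absurd (hswap w h) hwv
      · exact (mul_inv_eq_iff_eq_mul.mp h).symm
      · exfalso
        have h2' : y * (y * w * y⁻¹) * y⁻¹ = w := by
          rw [h, show y * (v * w) * y⁻¹ = y * v * y⁻¹ * (y * w * y⁻¹) by group, hyv, h, ← mul_assoc,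
            hsq v hv, one_mul]
        have h3' : y * w * y⁻¹ = w := by
          have e3 : y * (y * (y * w * y⁻¹) * y⁻¹) * y⁻¹ = y ^ 3 * w * (y ^ 3)⁻¹ := by
            simp only [pow_succ, pow_zero, one_mul, mul_inv_rev, mul_assoc]
          rw [hy3', h2'] at e3
          simpa using e3
        rw [h] at h3'
        exact hv1 (mul_eq_right.mp h3')
    have hyV' : y ∈ V := hC ▸ hyV
    have : y = 1 := disjoint_def.mp hdisj hy hyV'
    rw [this, orderOf_one] at hy3
    omega
  have hn4 : Nat.card (Sylow 3 Y) = 4 := by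
    have hn : Nat.card (Sylow 3 Y) ∈ ({1, 4} : Finset ℕ) := by
      rcases hidx with hi | hi <;> rw [hi] at hmul
      · have h := CfsgLib.SmallGroups.card_sylow_mem (G := Y) (p := 3) (a := 1) (m := 4)
          (by rw [← hmul]; norm_num) (by norm_num)
        rwa [show (Nat.divisors 4).filter (fun d => d % 3 = 1) = {1, 4} by decide] at h
      · have h := CfsgLib.SmallGroups.card_sylow_mem (G := Y) (p := 3) (a := 1) (m := 8)
          (by rw [← hmul]; norm_num) (by norm_num)
        rwa [show (Nat.divisors 8).filter (fun d => d % 3 = 1) = {1, 4} by decide] at h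
    simp only [Finset.mem_insert, Finset.mem_singleton] at hn
    refine hn.resolve_left fun h1 => ?_
    rw [P.card_eq_index_normalizer, index_eq_one] at h1
    have hPn : (P : Subgroup Y).Normal := normalizer_eq_top_iff.mp h1
    have hPC : (P : Subgroup Y) ≤ centralizer (V : Set Y) := fun y hy => mem_centralizer_iff.mpr
      fun w hw => (Subgroup.commute_of_normal_of_disjoint _ V hPn inferInstance hdisj y w hy hw).eq.symm
    have := Subgroup.card_dvd_of_le (hPC.trans hC.le)
    rw [hP, hV] at this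
    omega
  obtain ⟨eS⟩ : Nonempty (Sylow 3 Y ≃ Fin 4) := ⟨Finite.equivFinOfCardEq hn4⟩
  let F : Y →* Equiv.Perm (Fin 4) := eS.permCongrHom.toMonoidHom.comp (MulAction.toPermHom Y (Sylow 3 Y))
  have hFker : F.ker = ⊥ := by
    have hle : F.ker ≤ normalizer ((P : Subgroup Y) : Set Y) := by
      intro g hg
      exact Sylow.smul_eq_iff_mem_normalizer.mp (Equiv.congr_fun (eS.permCongrHom.injective
        (((MonoidHom.mem_ker).mp hg).trans (map_one eS.permCongrHom).symm)) P)
    have hKV : F.ker ⊓ V = ⊥ := by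
      rw [eq_bot_iff]
      rintro v ⟨hvK, hvV⟩
      rw [mem_bot]
      refine hfpf v hvV fun y hy => ?_
      have hc1 : v * y * v⁻¹ * y⁻¹ ∈ (P : Subgroup Y) :=
        mul_mem ((mem_normalizer_iff.mp (hle hvK) y).mp hy) (inv_mem hy)
      have hc2 : v * y * v⁻¹ * y⁻¹ ∈ V := by
        rw [show v * y * v⁻¹ * y⁻¹ = v * (y * v⁻¹ * y⁻¹) by group]
        exact mul_mem hvV ((inferInstance : V.Normal).conj_mem _ (inv_mem hvV) y)
      have := disjoint_def.mp hdisj hc1 hc2
      rw [mul_inv_eq_one, mul_inv_eq_iff_eq_mul] at this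
      exact this.symm
    rw [eq_bot_iff, ← hKV]
    refine le_inf le_rfl fun g hg => hC.le (mem_centralizer_iff.mpr fun w hw => ?_)
    exact (Subgroup.commute_of_normal_of_disjoint F.ker V inferInstance inferInstance
      (disjoint_iff.mpr hKV) g w hg hw).eq.symm
  have hr : Nat.card F.range = Nat.card Y :=
    (Nat.card_congr (MonoidHom.ofInjective ((MonoidHom.ker_eq_bot_iff F).mp hFker)).toEquiv).symm
  have hri := card_mul_index F.range
  rw [hr, card_perm_fin_four] at hri
  have : F.range.index = 1 ∨ F.range.index = 2 := by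
    rcases hidx with hi | hi <;> rw [hi] at hmul <;> rw [← hmul] at hri <;> omega
  rcases exists_surjective_of_index F this with ⟨g, hg, hk⟩ | ⟨g, hg, hk⟩
  · exact Or.inr (Or.inr (Or.inl ⟨g, hg, hk.trans hFker⟩))
  · exact Or.inr (Or.inl ⟨g, hg, hk.trans hFker⟩)

/-- The quotient of a soluble group with a unique involution and trivial odd core. -/
theorem exists_smallQuotient_soluble {X : Type*} [Group X] [Finite X] [Group.IsSolvable X]
    [Fact (Nat.Prime 2)] (hO : pPrimeCore 2 X = ⊥)
    (hinv : ∀ a b : X, a * a = 1 → a ≠ 1 → b * b = 1 → b ≠ 1 → a = b)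
    (hnc : ¬ ∀ P : Sylow 2 X, IsCyclic P) :
    ∃ K : Subgroup X, K.Normal ∧ IsCyclic K ∧ SmallQuotient K := by
  set R := pCore 2 X with hR
  have hR2 : IsPGroup 2 R := CfsgLib.Cores.isPGroup_pCore 2 X
  have hCR : centralizer (R : Set X) ≤ R := by
    have := CfsgLib.Cores.centralizer_fittingSubgroup_le (G := X)
    rwa [CfsgLib.Balance.fittingSubgroup_eq_pCore hO] at this
  haveI hRn : R.Normal := by rw [hR]; infer_instance
  rcases CfsgLib.TwoGroups.isCyclic_or_quaternion hR2
    ((uniqueOrderP_two hinv).of_injective R.subtype R.subtype_injective) with hc | ⟨-, m, hm, ⟨e⟩⟩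
  · exfalso
    let φ : X →* MulAut R := MulAut.conjNormal
    have hk : φ.ker ≤ R := fun g hg => hCR (mem_centralizer_iff.mpr fun w hw => by
      have h := congrArg (fun ψ : MulAut R => ((ψ ⟨w, hw⟩ : R) : X)) (MonoidHom.mem_ker.mp hg)
      simp only [φ, MulAut.conjNormal_apply, MulAut.one_apply] at h
      exact (mul_inv_eq_iff_eq_mul.mp h).symm)
    obtain ⟨i, hi⟩ := IsPGroup.iff_card.mp (hR2.to_le hk)
    obtain ⟨j, hj⟩ := IsPGroup.iff_card.mp
      ((CfsgLib.TwoGroups.isPGroup_mulAut_of_isCyclic hR2).to_subgroup φ.range)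
    have hX : IsPGroup 2 X := IsPGroup.of_card (n := i + j) (by
      rw [← card_mul_index φ.ker, index_ker, hi, hj, pow_add])
    have htop : R = ⊤ := CfsgLib.Cores.pCore_eq_top_iff.mpr hX
    apply hnc
    intro P
    have hXc : IsCyclic X := by
      rw [htop] at hc
      exact Subgroup.topEquiv.isCyclic.mp hc
    infer_instance
  obtain ⟨Φ₀, hΦc, hΦi, hΦsq, a, b, hgen⟩ := quaternion_squares hm e
  set Φ : Subgroup X := Φ₀.map R.subtype with hΦ
  have hΦR : Φ ≤ R := map_subtype_le Φ₀
  haveI hΦn : Φ.Normal := ⟨by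
    rintro _ ⟨x, hx, rfl⟩ g
    obtain ⟨r, rfl⟩ := (hΦsq x).mp hx
    refine ⟨⟨g * r * g⁻¹, hRn.conj_mem r r.2 g⟩ * ⟨g * r * g⁻¹, hRn.conj_mem r r.2 g⟩,
      (hΦsq _).mpr ⟨_, rfl⟩, ?_⟩
    simp only [Subgroup.coe_subtype, Subgroup.coe_mul]
    group⟩
  have hΦcyc : IsCyclic Φ := (Φ₀.equivMapOfInjective R.subtype R.subtype_injective).isCyclic.mp hΦc
  set V : Subgroup (X ⧸ Φ) := R.map (QuotientGroup.mk' Φ) with hV
  haveI : V.Normal := hRn.map _ (QuotientGroup.mk'_surjective Φ)
  have hcomapV : V.comap (QuotientGroup.mk' Φ) = R := by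
    rw [hV, comap_map_eq, QuotientGroup.ker_mk', sup_eq_left.mpr hΦR]
  have hV4 : Nat.card V = 4 := by
    have h := QuotientGroup.ker_mk' Φ
    have h1 := relIndex_map_map (QuotientGroup.mk' Φ) ⊥ R
    rw [Subgroup.map_bot, relIndex_bot_left, h, bot_sup_eq, sup_eq_left.mpr hΦR] at h1
    rw [hV, h1]
    have h2 : Φ₀ = Φ.subgroupOf R := by
      rw [hΦ, Subgroup.subgroupOf, comap_map_eq_self_of_injective R.subtype_injective]
    rw [Subgroup.relIndex, ← h2, hΦi]
  have hsq : ∀ v ∈ V, v * v = 1 := by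
    rintro _ ⟨r, hr, rfl⟩
    rw [← map_mul, QuotientGroup.mk'_apply, QuotientGroup.eq_one_iff]
    exact ⟨⟨r, hr⟩ * ⟨r, hr⟩, (hΦsq _).mpr ⟨⟨r, hr⟩, rfl⟩, rfl⟩
  have hC : centralizer (V : Set (X ⧸ Φ)) = V := by
    refine le_antisymm ?_ fun v hv => mem_centralizer_iff.mpr fun w hw => by
      have h1 := hsq v hv
      have h2 := hsq w hw
      have h3 := hsq _ (mul_mem hw hv)
      calc w * v = w * (w * v * (w * v)) * v := by rw [h3, mul_one]
        _ = (w * w) * (v * w) * (v * v) := by group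
        _ = v * w := by rw [h1, h2, one_mul, mul_one]
    set K := (centralizer (V : Set (X ⧸ Φ))).comap (QuotientGroup.mk' Φ) with hK
    haveI : K.Normal := by rw [hK]; infer_instance
    have hK2 : IsPGroup 2 K := by
      refine IsPGroup.of_card (n := (Nat.card K).primeFactorsList.length) ?_
      refine Nat.eq_prime_pow_of_unique_prime_dvd Nat.card_pos.ne' fun {q} hq hqd => ?_
      by_contra hq2
      have : Fact q.Prime := ⟨hq⟩
      obtain ⟨⟨g, hgK⟩, hg⟩ := exists_prime_orderOf_dvd_card' (G := K) q hqd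
      rw [orderOf_mk] at hg
      have hgP : IsPGroup q (zpowers g) := IsPGroup.of_card (n := 1) (by rw [Nat.card_zpowers, hg, pow_one])
      have hnd : ¬ q ∣ Nat.card Φ := fun h => hq2 (by
        obtain ⟨j, hj⟩ := IsPGroup.iff_card.mp (hR2.to_le hΦR)
        rw [hj] at h
        exact (Nat.prime_dvd_prime_iff_eq hq Nat.prime_two).mp (hq.dvd_of_dvd_pow h))
      have hlift : ∀ r ∈ R, ∃ c ∈ centralizer ((zpowers g : Subgroup X) : Set X), r⁻¹ * c ∈ Φ := by
        intro r hr
        refine CfsgLib.Balance.exists_centralizer_lift hgP hnd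
          ((le_top).trans (normalizer_eq_top_iff.mpr hΦn).ge) r fun x hx => ?_
        rw [← QuotientGroup.eq_one_iff, QuotientGroup.mk_mul, QuotientGroup.mk_mul, QuotientGroup.mk_mul,
          QuotientGroup.mk_inv, QuotientGroup.mk_inv]
        have hxK : x ∈ K := (zpowers_le.mpr hgK) hx
        have hcm := mem_centralizer_iff.mp (mem_comap.mp hxK) (QuotientGroup.mk' Φ r) ⟨r, hr, rfl⟩
        simp only [QuotientGroup.mk'_apply] at hcm
        rw [← hcm, mul_inv_cancel_right, inv_mul_cancel]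
      have htop : (centralizer ((zpowers g : Subgroup X) : Set X)).subgroupOf R = ⊤ := by
        refine hgen _ ?_ ?_
        · obtain ⟨c, hc, hcΦ⟩ := hlift a a.2
          obtain ⟨φ, hφ, hφe⟩ := hcΦ
          refine ⟨φ, hφ, ?_⟩
          rw [mem_subgroupOf, Subgroup.coe_mul]
          simp only [Subgroup.coe_subtype] at hφe
          rw [hφe, mul_inv_cancel_left]
          exact hc
        · obtain ⟨c, hc, hcΦ⟩ := hlift b b.2
          obtain ⟨φ, hφ, hφe⟩ := hcΦ
          refine ⟨φ, hφ, ?_⟩
          rw [mem_subgroupOf, Subgroup.coe_mul]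
          simp only [Subgroup.coe_subtype] at hφe
          rw [hφe, mul_inv_cancel_left]
          exact hc
      have hgR : g ∈ R := hCR (mem_centralizer_iff.mpr fun r hr =>
        (mem_centralizer_iff.mp (subgroupOf_eq_top.mp htop hr) g (mem_zpowers g)).symm)
      obtain ⟨j, hj⟩ := IsPGroup.iff_card.mp hR2
      have h1 := Subgroup.orderOf_dvd_natCard R hgR
      rw [hg, hj] at h1
      exact hq2 ((Nat.prime_dvd_prime_iff_eq hq Nat.prime_two).mp (hq.dvd_of_dvd_pow h1))
    intro v hv
    obtain ⟨g, rfl⟩ := QuotientGroup.mk'_surjective Φ v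
    exact mem_map_of_mem _ (CfsgLib.Cores.le_pCore hK2 (mem_comap.mpr hv))
  refine ⟨Φ, hΦn, hΦcyc, ?_⟩
  have hq := four_group_quotient hV4 hsq hC fun h2 => by
    obtain ⟨i, hi⟩ := IsPGroup.iff_card.mp h2
    obtain ⟨j, hj⟩ := IsPGroup.iff_card.mp (hR2.to_le hΦR)
    have hX : IsPGroup 2 X := IsPGroup.of_card (n := i + j) (by
      rw [card_eq_card_quotient_mul_card_subgroup Φ, hi, hj, pow_add])
    rw [hV, show R = ⊤ from CfsgLib.Cores.pCore_eq_top_iff.mpr hX,
      map_top_of_surjective _ (QuotientGroup.mk'_surjective Φ)]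
  have := hq.comap (QuotientGroup.mk' Φ) (QuotientGroup.mk'_surjective Φ)
  rwa [MonoidHom.comap_bot, QuotientGroup.ker_mk'] at this

end Soluble

/-! ### The insoluble case -/

section Insoluble

theorem exists_sl_to_alternating : ∃ σ : SL(2, ZMod 5) →* alternatingGroup (Fin 5),
    Function.Surjective σ ∧ Nat.card σ.ker = 2 := by
  have : Fact (Nat.Prime 5) := ⟨Nat.prime_five⟩
  obtain ⟨e⟩ := Cfsg.Agent.S0253.result (F := ZMod 5) (ZMod.card 5)
  refine ⟨e.toMonoidHom.comp (QuotientGroup.mk' (Subgroup.center SL(2, ZMod 5))),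
    e.surjective.comp (QuotientGroup.mk'_surjective _), ?_⟩
  set σ := e.toMonoidHom.comp (QuotientGroup.mk' (Subgroup.center SL(2, ZMod 5)))
  have h := card_mul_index σ.ker
  rw [index_ker, MonoidHom.range_eq_top.mpr (e.surjective.comp (QuotientGroup.mk'_surjective _)),
    card_top, card_alternating_five] at h
  have h120 : Nat.card SL(2, ZMod 5) = 120 := by
    rw [Nat.card_eq_fintype_card]; decide +kernel
  omega

theorem center_alternating_five : Subgroup.center (alternatingGroup (Fin 5)) = ⊥ := by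
  rw [eq_bot_iff]
  intro z hz
  exact Subtype.ext (eq_one_of_commute_alternating fun a ha =>
    congrArg Subtype.val ((mem_center_iff.mp hz ⟨a, ha⟩).symm))

/-- The quotient of a group with a unique involution having `SL(2,5)` with index at most two. -/
theorem exists_smallQuotient_insoluble {X : Type*} [Group X] [Finite X] [Fact (Nat.Prime 2)]
    (hinv : ∀ a b : X, a * a = 1 → a ≠ 1 → b * b = 1 → b ≠ 1 → a = b)
    (S : Subgroup X) [S.Normal] (hS : S.index ∣ 2) (e : S ≃* SL(2, ZMod 5)) :
    ∃ K : Subgroup X, K.Normal ∧ IsCyclic K ∧ SmallQuotient K := by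
  have := isSimpleGroup_alternating_five
  obtain ⟨σ₀, hσ₀, hσ₀k⟩ := exists_sl_to_alternating
  set σ : S →* alternatingGroup (Fin 5) := σ₀.comp e.toMonoidHom with hσdef
  have hσ : Function.Surjective σ := hσ₀.comp e.surjective
  have hσk : Nat.card σ.ker = 2 := by
    rw [← hσ₀k]
    refine Nat.card_congr (e.toEquiv.subtypeEquiv fun s => ?_)
    rfl
  set R := pCore 2 X with hR
  haveI hRn : R.Normal := by rw [hR]; infer_instance
  have hR2 : IsPGroup 2 R := CfsgLib.Cores.isPGroup_pCore 2 X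
  -- `R ∩ S` is the kernel of `σ`
  have hRS : R.subgroupOf S = σ.ker := by
    refine le_antisymm ?_ ?_
    · rw [← Subgroup.map_eq_bot_iff]
      refine ((hRn.subgroupOf S).map σ hσ).eq_bot_or_eq_top.resolve_right fun h => ?_
      have h2 : IsPGroup 2 ((R.subgroupOf S).map σ) :=
        ((hR2.comap_of_injective S.subtype S.subtype_injective).map σ)
      obtain ⟨j, hj⟩ := IsPGroup.iff_card.mp h2
      rw [h, card_top, card_alternating_five] at hj
      have h3 : 3 ∣ 2 ^ j := hj ▸ (by norm_num)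
      exact absurd (Nat.prime_three.dvd_of_dvd_pow h3) (by norm_num)
    · have h1 : σ.ker ≤ pCore 2 S :=
        CfsgLib.Cores.le_pCore (IsPGroup.of_card (n := 1) (by rw [hσk, pow_one]))
      intro s hs
      exact CfsgLib.Cores.map_subtype_pCore_le (Subgroup.Normal.isSubnormal inferInstance)
        (mem_map_of_mem S.subtype (h1 hs))
  have hRcard : Nat.card R ∣ 4 := by
    have h1 := relIndex_mul_relIndex (⊥ : Subgroup X) (S ⊓ R) R bot_le inf_le_right
    rw [relIndex_bot_left, relIndex_bot_left, inf_relIndex_right] at h1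
    have h2 : Nat.card (S ⊓ R : Subgroup X) = 2 := by
      rw [inf_comm, ← hσk, ← hRS]
      exact (Nat.card_congr (subgroupOfEquivOfLe (inf_le_right : R ⊓ S ≤ S)).toEquiv).symm.trans
        (by rw [inf_subgroupOf_right])
    rw [← h1, h2]
    exact mul_dvd_mul (dvd_refl 2) ((relIndex_dvd_index_of_normal S R).trans hS)
  refine ⟨R, hRn, isCyclic_of_card_dvd_four hinv hRcard, ?_⟩
  -- pass to `X ⧸ R`
  set A : Subgroup (X ⧸ R) := S.map (QuotientGroup.mk' R) with hA
  haveI hAn : A.Normal := Subgroup.Normal.map inferInstance _ (QuotientGroup.mk'_surjective R)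
  have hAidx : A.index ∣ 2 := (index_map_dvd S (QuotientGroup.mk'_surjective R)).trans hS
  set τ : S →* A := (QuotientGroup.mk' R).subgroupMap S with hτdef
  have hτ : Function.Surjective τ := MonoidHom.subgroupMap_surjective _ _
  have hτk : τ.ker = σ.ker := by
    rw [← hRS]
    ext s
    rw [MonoidHom.mem_ker, mem_subgroupOf, hτdef]
    exact Subtype.ext_iff.trans (QuotientGroup.eq_one_iff (s : X))
  obtain ⟨eA⟩ : Nonempty (A ≃* alternatingGroup (Fin 5)) :=
    ⟨(QuotientGroup.quotientKerEquivOfSurjective τ hτ).symm.trans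
      ((QuotientGroup.quotientMulEquivOfEq hτk).trans (QuotientGroup.quotientKerEquivOfSurjective σ hσ))⟩
  have hA60 : Nat.card A = 60 := (Nat.card_congr eA.toEquiv).trans card_alternating_five
  have hO2 : pCore 2 (X ⧸ R) = ⊥ := CfsgLib.Cores.pCore_quotient_pCore 2 X
  have hCA : centralizer (A : Set (X ⧸ R)) ⊓ A = ⊥ := by
    rw [eq_bot_iff]
    rintro x ⟨hxC, hxA⟩
    have : eA ⟨x, hxA⟩ ∈ center (alternatingGroup (Fin 5)) := mem_center_iff.mpr fun y => by
      obtain ⟨z, rfl⟩ := eA.surjective y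
      rw [← map_mul, ← map_mul]
      exact congrArg eA (Subtype.ext (mem_centralizer_iff.mp hxC z z.2))
    rw [center_alternating_five, mem_bot, map_eq_one_iff eA eA.injective] at this
    exact congrArg Subtype.val this
  haveI hCn : (centralizer (A : Set (X ⧸ R))).Normal := inferInstance
  have hC : centralizer (A : Set (X ⧸ R)) = ⊥ := by
    refine eq_bot_iff.mpr (le_trans ?_ hO2.le)
    refine CfsgLib.Cores.le_pCore ?_
    have h1 := relIndex_mul_relIndex (⊥ : Subgroup (X ⧸ R)) (A ⊓ centralizer (A : Set (X ⧸ R))) _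
      bot_le inf_le_right
    rw [relIndex_bot_left, relIndex_bot_left, inf_relIndex_right, inf_comm, hCA, card_bot, one_mul] at h1
    obtain ⟨j, -, hj⟩ := (Nat.dvd_prime_pow Nat.prime_two).mp
      (show Nat.card (centralizer (A : Set (X ⧸ R))) ∣ 2 ^ 1 from
        h1 ▸ (relIndex_dvd_index_of_normal A _).trans hAidx)
    exact IsPGroup.of_card hj
  -- the action on the five Sylow 2-subgroups of `A`
  have hn5 : Nat.card (Sylow 2 A) = 5 := by
    rw [← card_sylow_two_alternating_five]
    have hf : Function.Surjective eA.toMonoidHom := eA.surjective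
    refine Nat.card_eq_of_bijective _ ⟨fun P Q h => ?_, Sylow.mapSurjective_surjective hf 2⟩
    have h' := congrArg (fun S : Sylow 2 (alternatingGroup (Fin 5)) =>
      (S : Subgroup (alternatingGroup (Fin 5)))) h
    simp only [Sylow.coe_mapSurjective] at h'
    exact Sylow.ext (map_injective (f := eA.toMonoidHom) eA.injective h')
  obtain ⟨eS⟩ : Nonempty (Sylow 2 A ≃ Fin 5) := ⟨Finite.equivFinOfCardEq hn5⟩
  let F₀ : (X ⧸ R) →* Equiv.Perm (Sylow 2 A) :=
    (MulAction.toPermHom (MulAut A) (Sylow 2 A)).comp MulAut.conjNormal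
  let F : (X ⧸ R) →* Equiv.Perm (Fin 5) := eS.permCongrHom.toMonoidHom.comp F₀
  have hFker : F.ker = ⊥ := by
    have hF0 : F.ker = F₀.ker := by
      ext g
      simp only [F, MonoidHom.mem_ker, MonoidHom.comp_apply, MulEquiv.coe_toMonoidHom,
        map_eq_one_iff eS.permCongrHom eS.permCongrHom.injective]
    rw [hF0]
    have hKA : F₀.ker ⊓ A = ⊥ := by
      have hmem : ∀ (x : A), (x : X ⧸ R) ∈ F₀.ker → x ∈ (MulAction.toPermHom A (Sylow 2 A)).ker := by
        intro x hx
        refine MonoidHom.mem_ker.mpr (Equiv.ext fun P => ?_)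
        have h := Equiv.congr_fun (MonoidHom.mem_ker.mp hx) P
        have he : MulAut.conjNormal (x : X ⧸ R) = MulAut.conj x := by
          ext y
          rw [MulAut.conjNormal_apply, MulAut.conj_apply]
          rfl
        simp only [F₀, MonoidHom.comp_apply, MulAction.toPermHom_apply, MulAction.toPerm_apply, he,
          Equiv.Perm.coe_one, id_eq] at h ⊢
        exact h
      have : IsSimpleGroup A := eA.isSimpleGroup
      have hbot : (MulAction.toPermHom A (Sylow 2 A)).ker = ⊥ := by
        refine (MonoidHom.normal_ker _).eq_bot_or_eq_top.resolve_right fun h => ?_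
        obtain ⟨P, Q, hne⟩ : ∃ P Q : Sylow 2 A, P ≠ Q := by
          have : Nontrivial (Sylow 2 A) := Finite.one_lt_card_iff_nontrivial.mp (by omega)
          exact exists_pair_ne _
        obtain ⟨g, hg⟩ := MulAction.exists_smul_eq A P Q
        have h1 : g ∈ (MulAction.toPermHom A (Sylow 2 A)).ker := h ▸ mem_top g
        exact hne ((Equiv.congr_fun (MonoidHom.mem_ker.mp h1) P).symm.trans hg)
      rw [eq_bot_iff]
      rintro x ⟨hxK, hxA⟩
      have := hbot.le (hmem ⟨x, hxA⟩ hxK)
      exact congrArg Subtype.val (mem_bot.mp this)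
    refine eq_bot_iff.mpr fun g hg => hC.le (mem_centralizer_iff.mpr fun w hw => ?_)
    exact (Subgroup.commute_of_normal_of_disjoint F₀.ker A inferInstance hAn
      (disjoint_iff.mpr hKA) g w hg hw).eq.symm
  have hr : Nat.card F.range = Nat.card (X ⧸ R) :=
    (Nat.card_congr (MonoidHom.ofInjective ((MonoidHom.ker_eq_bot_iff F).mp hFker)).toEquiv).symm
  have hmul := card_mul_index A
  have hri := card_mul_index F.range
  rw [hr, card_perm_fin_five, ← hmul, hA60] at hri
  have : F.range.index = 1 ∨ F.range.index = 2 := by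
    rcases (Nat.dvd_prime Nat.prime_two).mp hAidx with h | h <;> rw [h] at hri <;> omega
  have hq : SmallQuotient (⊥ : Subgroup (X ⧸ R)) := by
    rcases exists_surjective_of_index F this with ⟨g, hg, hk⟩ | ⟨g, hg, hk⟩
    · exact Or.inr (Or.inr (Or.inr (Or.inr ⟨g, hg, hk.trans hFker⟩)))
    · exact Or.inr (Or.inr (Or.inr (Or.inl ⟨g, hg, hk.trans hFker⟩)))
  have := hq.comap (QuotientGroup.mk' R) (QuotientGroup.mk'_surjective R)
  rwa [MonoidHom.comap_bot, QuotientGroup.ker_mk'] at this

end Insoluble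

end CfsgLib.ComplementQuotient
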