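import Cfsg.Agent.Lib.Frobenius.SquarefreeComplement
import Cfsg.Agent.Lib.Frobenius.Kazarin
import Cfsg.Agent.Lib.Cores.Fitting
import Cfsg.Agent.Lib.Supersolvable.Basic
import Cfsg.Agent.Lib.PSolvable.FrattiniFacts
import Mathlib.GroupTheory.SchurZassenhaus
import Mathlib.GroupTheory.SpecificGroups.ZGroup

/-!
Groups all of whose conjugacy class sizes are square-free.
-/

set_option autoImplicit false
set_option linter.style.haveILetI false

namespace CfsgLib.Frobenius

open Cfsg CfsgLib.NormalPComplement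
open scoped Pointwise commutatorElement

universe u

/-- Smallest prime with no class size divisible by its square: normal complement. -/
theorem hasNormalPComplement_of_not_sq_dvd {G : Type u} [Group G] [Finite G] {p : ℕ}
    [hp : Fact p.Prime] (hmin : ∀ r : ℕ, r.Prime → r ∣ Nat.card G → p ≤ r)
    (h : ∀ g : G, ¬ p ^ 2 ∣ (Subgroup.centralizer ({g} : Set G)).index) :
    HasNormalPComplement p G := by
  classical
  obtain ⟨P⟩ : Nonempty (Sylow p G) := inferInstance
  set F := (frattini (P : Subgroup G)).map (P : Subgroup G).subtype with hF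
  have hFc : F ≤ Subgroup.center G := frattini_sylow_le_center h P
  haveI : F.Normal := ⟨fun a ha g => by
    rw [Subgroup.mem_center_iff.1 (hFc ha) g, mul_inv_cancel_right]; exact ha⟩
  have hFp : IsPGroup p F := P.2.to_le (Subgroup.map_subtype_le _)
  set f := QuotientGroup.mk' F with hf
  have hsurj : Function.Surjective f := QuotientGroup.mk'_surjective F
  have hFall : ∀ P' : Sylow p G, ∀ x ∈ P', (∀ y ∈ P', f x * f y = f y * f x) ∧ f x ^ p = 1 := by
    intro P' x hx
    obtain ⟨g, hg⟩ := MulAction.exists_smul_eq G P P'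
    have hconj : ∀ z ∈ P', g⁻¹ * z * g ∈ (P : Subgroup G) := by
      intro z hz
      have hz' : z ∈ MulAut.conj g • (P : Subgroup G) :=
        ((congrArg Sylow.toSubgroup hg).symm.trans Sylow.coe_subgroup_smul).le hz
      obtain ⟨q, hq, hqz⟩ := hz'
      rw [show g⁻¹ * z * g = q by rw [← hqz]; simp [mul_assoc]]
      exact hq
    have hcent : ∀ u : G, g⁻¹ * u * g ∈ F → u ∈ F := by
      intro u hu
      have := (inferInstance : F.Normal).conj_mem _ hu g
      simpa [mul_assoc] using this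
    refine ⟨fun y hy => ?_, ?_⟩
    · have h1 : ⁅x, y⁆ ∈ F := hcent _ (by
        have := Subgroup.mem_map_of_mem (P : Subgroup G).subtype
          (CfsgLib.PGroups.commutatorElement_mem_frattini P.2 ⟨_, hconj x hx⟩ ⟨_, hconj y hy⟩)
        rw [hF]
        simpa [commutatorElement_def, mul_assoc] using this)
      rw [← commutatorElement_eq_one_iff_mul_comm, ← map_commutatorElement]
      exact (QuotientGroup.eq_one_iff _).2 h1
    · rw [← map_pow]
      refine (QuotientGroup.eq_one_iff _).2 (hcent _ ?_)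
      have := Subgroup.mem_map_of_mem (P : Subgroup G).subtype
        (CfsgLib.PGroups.pow_mem_frattini P.2 ⟨_, hconj x hx⟩)
      have e : g⁻¹ * x ^ p * g = (g⁻¹ * x * g) ^ p := by
        simpa using (conj_pow (a := g⁻¹) (b := x) (i := p)).symm
      rw [e]
      exact this
  refine hasNormalPComplement_of_central_quotient F hFc hFp
    (hasNormalPComplement_of_nearlyCentral
      (fun r hr hrd => hmin r hr (hrd.trans (Subgroup.card_quotient_dvd_card F))) ?_ ?_)
  · intro Q
    obtain ⟨P', hP'⟩ := Sylow.mapSurjective_surjective hsurj p Q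
    rw [← hP', Sylow.coe_mapSurjective]
    refine ⟨⟨⟨?_⟩⟩, ?_⟩
    · rintro ⟨_, a, ha, rfl⟩ ⟨_, b, hb, rfl⟩
      exact Subtype.ext ((hFall P' a ha).1 b hb)
    · rintro _ ⟨a, ha, rfl⟩
      exact (hFall P' a ha).2
  · intro y _
    obtain ⟨g, rfl⟩ := hsurj y
    set C := Subgroup.centralizer ({g} : Set G)
    obtain ⟨T⟩ : Nonempty (Sylow p C) := inferInstance
    set T' := (T : Subgroup C).map C.subtype
    refine ⟨(T' ⊔ F).map f, ((T.2.map _).to_sup_of_normal_right hFp).map f, ?_, fun Q => ?_⟩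
    · rintro _ ⟨t, ht, rfl⟩
      have htc : t ∈ C :=
        (sup_le (Subgroup.map_subtype_le _) (hFc.trans fun c hc =>
          Subgroup.mem_centralizer_singleton_iff.2 (Subgroup.mem_center_iff.1 hc g).symm)) ht
      rw [Subgroup.mem_centralizer_singleton_iff, ← map_mul, ← map_mul,
        Subgroup.mem_centralizer_singleton_iff.1 htc]
    · obtain ⟨P', hP'⟩ := Sylow.mapSurjective_surjective hsurj p Q
      rw [← hP']
      have hcard : ∀ X : Subgroup G, F ≤ X → Nat.card (X.map f) * Nat.card F = Nat.card X := by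
        intro X hX
        have h3 := Subgroup.relIndex_comap (H := (⊥ : Subgroup (G ⧸ F))) f X
        rw [MonoidHom.comap_bot, hf, QuotientGroup.ker_mk', Subgroup.relIndex_bot_left] at h3
        have h4 := Subgroup.card_mul_index (F.subgroupOf X)
        rw [← Subgroup.relIndex, h3, Nat.card_congr (Subgroup.subgroupOfEquivOfLe hX).toEquiv] at h4
        rw [mul_comm, h4]
      have hFP' : F ≤ (P' : Subgroup G) :=
        (CfsgLib.Cores.le_pCore hFp).trans (CfsgLib.Cores.pCore_le_sylow P')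
      refine Nat.le_of_mul_le_mul_right ?_ (Nat.card_pos (α := F))
      rw [show Nat.card (P'.mapSurjective hsurj : Subgroup (G ⧸ F)) =
        Nat.card ((P' : Subgroup G).map f) by rw [Sylow.coe_mapSurjective],
        mul_assoc, hcard _ hFP', hcard _ le_sup_right]
      refine le_trans ?_ (Nat.mul_le_mul_left _ (Subgroup.card_le_of_le le_sup_left))
      rw [Nat.card_congr (Subgroup.equivMapOfInjective _ C.subtype C.subtype_injective).toEquiv.symm,
        T.card_eq_multiplicity, P'.card_eq_multiplicity, ← pow_succ']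
      refine Nat.pow_le_pow_right hp.out.pos ?_
      have hi : C.index.factorization p ≤ 1 := by
        by_contra hlt
        exact h g ((hp.out.pow_dvd_iff_le_factorization Subgroup.index_ne_zero_of_finite).2
          (not_le.1 hlt))
      rw [← Subgroup.card_mul_index C, Nat.factorization_mul Nat.card_pos.ne'
        Subgroup.index_ne_zero_of_finite]
      simp only [Finsupp.add_apply]
      omega

/-- Square-free class sizes pass to normal subgroups. -/
theorem squarefree_classes_normal {G : Type u} [Group G] [Finite G] (N : Subgroup G) [N.Normal]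
    (h : ∀ g : G, Squarefree (Subgroup.centralizer ({g} : Set G)).index) (x : N) :
    Squarefree (Subgroup.centralizer ({x} : Set N)).index := by
  set C := Subgroup.centralizer ({(x : G)} : Set G)
  have e : C.subgroupOf N = Subgroup.centralizer ({x} : Set N) := by
    ext ⟨g, hg⟩
    simp [Subgroup.mem_subgroupOf, C, Subgroup.mem_centralizer_singleton_iff, Subtype.ext_iff]
  refine (h x).squarefree_of_dvd ?_
  rw [← e, ← Subgroup.relIndex, ← relIndex_normal_sup_eq N (le_refl C)]
  exact ⟨_, (Subgroup.relIndex_mul_index le_sup_right).symm⟩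

/-- Groups with square-free class sizes are solvable. -/
theorem isSolvable_of_squarefree_classes {G : Type u} [Group G] [Finite G]
    (h : ∀ g : G, Squarefree (Subgroup.centralizer ({g} : Set G)).index) :
    Group.IsSolvable G := by
  induction hn : Nat.card G using Nat.strong_induction_on generalizing G with
  | _ n ih =>
    subst hn
    rcases eq_or_ne (Nat.card G) 1 with h1 | h1
    · haveI : Subsingleton G := (Nat.card_eq_one_iff_unique.1 h1).1
      infer_instance
    set p := (Nat.card G).minFac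
    haveI hp : Fact p.Prime := ⟨Nat.minFac_prime h1⟩
    have hpc := hasNormalPComplement_of_not_sq_dvd (G := G) (p := p)
      (fun r hr hrd => Nat.minFac_le_of_dvd hr.two_le hrd)
      (fun g hd => hp.out.ne_one (Nat.isUnit_iff.1 (h g p (by rwa [← sq]))))
    set K := pPrimeCore p G
    have hlt : Nat.card K < Nat.card G := lt_of_le_of_ne (Subgroup.card_le_card_group _) fun e =>
      Cores.not_dvd_card_pPrimeCore (G := G) (p := p) (e ▸ Nat.minFac_dvd _)
    haveI := ih _ hlt (squarefree_classes_normal K h) rfl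
    haveI : Group.IsNilpotent (G ⧸ K) :=
      (hasNormalPComplement_iff_isPGroup_quotient.1 hpc).isNilpotent
    exact Group.isSolvable_of_ker_le_range K.subtype (QuotientGroup.mk' K)
      (by rw [QuotientGroup.ker_mk', Subgroup.range_subtype])

/-- Elements of order prime to `p` acting on a `p`-group: a commutator fixed by the element is
trivial. -/
theorem eq_one_of_commute_coprime {G : Type u} [Group G] [Finite G] {p : ℕ} [Fact p.Prime]
    {P : Subgroup G} (hP : IsPGroup p P) {g v t : G} (hg : (orderOf g).Coprime p) (ht : t ∈ P)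
    (hconj : g * v * g⁻¹ = v * t) (hc : Commute g t) : t = 1 := by
  have hpow : ∀ i : ℕ, g ^ i * v * (g ^ i)⁻¹ = v * t ^ i := by
    intro i
    induction i with
    | zero => simp
    | succ i ihi =>
      calc g ^ (i + 1) * v * (g ^ (i + 1))⁻¹
          = g * (g ^ i * v * (g ^ i)⁻¹) * g⁻¹ := by rw [pow_succ']; group
        _ = g * v * g⁻¹ * (g * t ^ i * g⁻¹) := by rw [ihi]; group
        _ = v * t * t ^ i := by rw [hconj, (hc.pow_right i).eq, mul_inv_cancel_right]
        _ = v * t ^ (i + 1) := by rw [pow_succ', mul_assoc]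
  have h1 := hpow (orderOf g)
  rw [pow_orderOf_eq_one, one_mul, inv_one, mul_one, eq_comm, mul_eq_left] at h1
  obtain ⟨k, hk⟩ := hP ⟨t, ht⟩
  have hk' : t ^ p ^ k = 1 := congrArg Subtype.val hk
  exact orderOf_eq_one_iff.1 (Nat.eq_one_of_dvd_coprimes (hg.pow_right k)
    (orderOf_dvd_of_pow_eq_one h1) (orderOf_dvd_of_pow_eq_one hk'))

/-- A normal Sylow subgroup in which every element of the group fixes a subgroup of index at most
`p` has commutator with the group of order at most `p`. -/
theorem card_commutator_le {G : Type u} [Group G] [Finite G] {p : ℕ} [hp : Fact p.Prime]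
    (P : Sylow p G) [hPn : (P : Subgroup G).Normal]
    (h : ∀ g : G, (Subgroup.centralizer ({g} : Set G)).relIndex (P : Subgroup G) ∣ p) :
    Nat.card ↥⁅(P : Subgroup G), (⊤ : Subgroup G)⁆ ≤ p := by
  classical
  set P₀ := (P : Subgroup G) with hP₀
  have hsplit : ∀ g : G, ∃ u y : G, u ∈ P₀ ∧ (orderOf y).Coprime p ∧ u * y = g := by
    intro g
    obtain ⟨u, y, -, -, huy, -, ⟨k, hk⟩, hy⟩ := CfsgLib.Subnormal.exists_pPart_mul hp.out g
    have hpu : IsPGroup p (Subgroup.zpowers u) :=
      IsPGroup.of_card (n := k) (by rw [Nat.card_zpowers, hk])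
    obtain ⟨Q, hQ⟩ := hpu.exists_le_sylow
    haveI := Sylow.unique_of_normal P hPn
    rw [Subsingleton.elim Q P] at hQ
    exact ⟨u, y, hQ (Subgroup.mem_zpowers u), hy, huy⟩
  have hmem : ∀ g : G, ∀ v ∈ P₀, g * v * g⁻¹ ∈ P₀ := fun g v hv => hPn.conj_mem v hv g
  have hprime : ∀ g : G, ¬ P₀ ≤ Subgroup.centralizer ({g} : Set G) →
      (Subgroup.centralizer ({g} : Set G)).relIndex P₀ = p := by
    intro g hg
    rcases (Nat.dvd_prime hp.out).1 (h g) with h1 | h1
    · exact absurd (Subgroup.relIndex_eq_one.1 h1) hg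
    · exact h1
  have hgen : ∀ g : G, ∀ d ∈ P₀, d ∉ Subgroup.centralizer ({g} : Set G) → ∀ v ∈ P₀,
      ∃ a ∈ P₀, ∃ i : ℤ, a ∈ Subgroup.centralizer ({g} : Set G) ∧ v = a * d ^ i := by
    intro g d hd hdg v hv
    have hne : ¬ P₀ ≤ Subgroup.centralizer ({g} : Set G) := fun hle => hdg (hle hd)
    set A := (Subgroup.centralizer ({g} : Set G)).subgroupOf P₀ with hA
    have hAmax : IsCoatom A := CfsgLib.TwoGroups.isCoatom_of_index_prime
      (show ((Subgroup.centralizer ({g} : Set G)).relIndex P₀).Prime by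
        rw [hprime g hne]; exact hp.out)
    haveI : A.Normal := CfsgLib.TwoGroups.normal_of_isCoatom P.2 hAmax
    have htop : A ⊔ Subgroup.zpowers (⟨d, hd⟩ : P₀) = ⊤ :=
      hAmax.2 _ (lt_of_le_of_ne le_sup_left fun e => hdg
        (Subgroup.mem_subgroupOf.1
          (e.symm ▸ Subgroup.mem_sup_right (Subgroup.mem_zpowers _) : (⟨d, hd⟩ : P₀) ∈ A)))
    obtain ⟨a, ha, t, ht, hat⟩ := Subgroup.mem_sup_of_normal_left.1
      (htop.symm ▸ Subgroup.mem_top (⟨v, hv⟩ : P₀) :
        (⟨v, hv⟩ : P₀) ∈ A ⊔ Subgroup.zpowers (⟨d, hd⟩ : P₀))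
    obtain ⟨i, rfl⟩ := Subgroup.mem_zpowers_iff.1 ht
    exact ⟨a, a.2, i, ha, by simpa using (congrArg Subtype.val hat).symm⟩
  by_cases hall : ∀ y : G, (orderOf y).Coprime p → P₀ ≤ Subgroup.centralizer ({y} : Set G)
  · -- all `p'`-elements centralize `P`
    have hred : ⁅P₀, (⊤ : Subgroup G)⁆ ≤ ⁅P₀, P₀⁆ := by
      refine Subgroup.commutator_le.2 fun v hv g _ => ?_
      obtain ⟨u, y, hu, hy, rfl⟩ := hsplit g
      have hyv : y * v⁻¹ * y⁻¹ = v⁻¹ := by
        rw [← Subgroup.mem_centralizer_singleton_iff.1 (hall y hy (P₀.inv_mem hv)),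
          mul_inv_cancel_right]
      have e : ⁅v, u * y⁆ = ⁅v, u⁆ := by
        calc ⁅v, u * y⁆ = v * u * (y * v⁻¹ * y⁻¹) * u⁻¹ := by rw [commutatorElement_def]; group
          _ = ⁅v, u⁆ := by rw [hyv, commutatorElement_def]
      rw [e]
      exact Subgroup.commutator_mem_commutator hv hu
    refine le_trans (Subgroup.card_le_of_le hred) ?_
    by_cases habel : ⁅P₀, P₀⁆ = ⊥
    · rw [habel, Subgroup.card_bot]; exact hp.out.one_lt.le
    have hcomm_central : ∀ a ∈ P₀, ∀ b ∈ P₀, ∀ c ∈ P₀, Commute ⁅a, b⁆ c := by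
      intro a ha b hb c hc
      by_cases hle : P₀ ≤ Subgroup.centralizer ({c} : Set G)
      · exact Subgroup.mem_centralizer_singleton_iff.1 (hle (Subgroup.commutator_le_self P₀
          (Subgroup.commutator_mem_commutator ha hb)))
      have hAmax : IsCoatom ((Subgroup.centralizer ({c} : Set G)).subgroupOf P₀) :=
        CfsgLib.TwoGroups.isCoatom_of_index_prime
          (show ((Subgroup.centralizer ({c} : Set G)).relIndex P₀).Prime by
            rw [hprime c hle]; exact hp.out)
      have := frattini_le_coatom hAmax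
        (CfsgLib.PGroups.commutatorElement_mem_frattini P.2 ⟨a, ha⟩ ⟨b, hb⟩)
      exact Subgroup.mem_centralizer_singleton_iff.1 (Subgroup.mem_subgroupOf.1 this)
    let φ : ∀ x : G, x ∈ P₀ → (P₀ →* G) := fun x hx => MonoidHom.mk' (fun v => ⁅x, (v : G)⁆)
      fun v w => by
        have hc := hcomm_central x hx w w.2 v v.2
        calc ⁅x, ((v * w : P₀) : G)⁆ = ⁅x, (v : G)⁆ * ((v : G) * ⁅x, (w : G)⁆ * (v : G)⁻¹) := by
              simp only [Subgroup.coe_mul, commutatorElement_def]; group
          _ = ⁅x, (v : G)⁆ * ⁅x, (w : G)⁆ := by rw [← hc.eq, mul_inv_cancel_right]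
    have hrange : ∀ x : G, ∀ hx : x ∈ P₀, Nat.card (φ x hx).range ≤ p := by
      intro x hx
      rw [← Subgroup.index_ker]
      refine Nat.le_of_dvd hp.out.pos ?_
      have : (φ x hx).ker = (Subgroup.centralizer ({x} : Set G)).subgroupOf P₀ := by
        ext v
        rw [MonoidHom.mem_ker, Subgroup.mem_subgroupOf, Subgroup.mem_centralizer_singleton_iff]
        exact commutatorElement_eq_one_iff_mul_comm.trans eq_comm
      rw [this]
      exact h x
    obtain ⟨x₀, hx₀, v₀, hv₀, hne⟩ : ∃ x ∈ P₀, ∃ v ∈ P₀, ⁅x, v⁆ ≠ 1 := by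
      by_contra hcon
      push Not at hcon
      exact habel (le_bot_iff.1 (Subgroup.commutator_le.2 fun x hx v hv =>
        Subgroup.mem_bot.2 (hcon x hx v hv)))
    have hord : ∀ x : G, ∀ hx : x ∈ P₀, ∀ v : P₀, ⁅x, (v : G)⁆ ≠ 1 →
        (φ x hx).range = Subgroup.zpowers ⁅x, (v : G)⁆ := by
      intro x hx v hv
      refine (Subgroup.eq_of_le_of_card_ge (Subgroup.zpowers_le.2 (MonoidHom.mem_range.2 ⟨v, rfl⟩)) ?_).symm
      refine (hrange x hx).trans ?_
      have hmem' : ⁅x, (v : G)⁆ ∈ P₀ :=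
        Subgroup.commutator_le_self P₀ (Subgroup.commutator_mem_commutator hx v.2)
      obtain ⟨k, hk⟩ := (P.2.to_le (Subgroup.zpowers_le.2 hmem')).exists_card_eq
      change p ≤ Nat.card (Subgroup.zpowers ⁅x, (v : G)⁆)
      rw [hk]
      rcases k with _ | k
      · rw [pow_zero, Nat.card_zpowers, orderOf_eq_one_iff] at hk
        exact absurd hk hv
      · exact Nat.le_self_pow (by omega) p
    set D := Subgroup.zpowers ⁅x₀, v₀⁆ with hD
    have hDp : Nat.card D ≤ p := by
      rw [hD, ← hord x₀ hx₀ ⟨v₀, hv₀⟩ hne]; exact hrange x₀ hx₀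
    refine le_trans (Subgroup.card_le_of_le (Subgroup.commutator_le.2 fun a ha b hb => ?_)) hDp
    by_cases hab : ⁅a, b⁆ = 1
    · rw [hab]; exact D.one_mem
    -- a common element outside both centralizers
    obtain ⟨w, hw, hwx, hwa⟩ : ∃ w ∈ P₀, ⁅x₀, w⁆ ≠ 1 ∧ ⁅a, w⁆ ≠ 1 := by
      by_cases h1 : ⁅a, v₀⁆ = 1
      · by_cases h2 : ⁅x₀, b⁆ = 1
        · refine ⟨v₀ * b, P₀.mul_mem hv₀ hb, ?_, ?_⟩
          · intro he
            have e := (φ x₀ hx₀).map_mul ⟨v₀, hv₀⟩ ⟨b, hb⟩
            simp only [φ, MonoidHom.mk'_apply, Subgroup.coe_mul, he, h2, mul_one] at e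
            exact hne e.symm
          · intro he
            have e := (φ a ha).map_mul ⟨v₀, hv₀⟩ ⟨b, hb⟩
            simp only [φ, MonoidHom.mk'_apply, Subgroup.coe_mul, he, h1, one_mul] at e
            exact hab e.symm
        · exact ⟨b, hb, h2, hab⟩
      · exact ⟨v₀, hv₀, hne, h1⟩
    have hwx' : ⁅w, x₀⁆ ≠ 1 := fun e => hwx (by rw [← commutatorElement_inv, e, inv_one])
    have hwa' : ⁅w, a⁆ ≠ 1 := fun e => hwa (by rw [← commutatorElement_inv, e, inv_one])
    have h1 : ⁅a, b⁆ ∈ (φ a ha).range := ⟨⟨b, hb⟩, rfl⟩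
    have h2 : (φ a ha).range = (φ w hw).range := by
      rw [hord a ha ⟨w, hw⟩ hwa, hord w hw ⟨a, ha⟩ hwa', ← commutatorElement_inv w a,
        Subgroup.zpowers_inv]
    have h3 : (φ w hw).range = (φ x₀ hx₀).range := by
      rw [hord x₀ hx₀ ⟨w, hw⟩ hwx, hord w hw ⟨x₀, hx₀⟩ hwx', ← commutatorElement_inv w x₀,
        Subgroup.zpowers_inv]
    rw [h2, h3, hord x₀ hx₀ ⟨v₀, hv₀⟩ hne] at h1
    exact h1
  push Not at hall
  obtain ⟨y, hy, hyP⟩ := hall
  -- `P` is abelian
  obtain ⟨v₁, hv₁, hv₁y⟩ := SetLike.not_le_iff_exists.1 hyP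
  rw [Subgroup.mem_centralizer_singleton_iff] at hv₁y
  set d := v₁⁻¹ * (y * v₁ * y⁻¹) with hd_def
  have hdP : d ∈ P₀ := P₀.mul_mem (P₀.inv_mem hv₁) (hmem y v₁ hv₁)
  have hdy : d ∉ Subgroup.centralizer ({y} : Set G) := by
    intro hc
    have hd1 := eq_one_of_commute_coprime P.2 hy hdP (v := v₁) (t := d)
      (by rw [hd_def, mul_inv_cancel_left])
      (Subgroup.mem_centralizer_singleton_iff.1 hc).symm
    rw [hd_def, inv_mul_eq_one, eq_mul_inv_iff_mul_eq] at hd1
    exact hv₁y hd1
  have hdA : ∀ a ∈ P₀, a ∈ Subgroup.centralizer ({y} : Set G) → Commute d a := by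
    intro a ha hay
    have hmax : IsCoatom ((Subgroup.centralizer ({y} : Set G)).subgroupOf P₀) :=
      CfsgLib.TwoGroups.isCoatom_of_index_prime
        (show ((Subgroup.centralizer ({y} : Set G)).relIndex P₀).Prime by
          rw [hprime y hyP]; exact hp.out)
    haveI := CfsgLib.TwoGroups.normal_of_isCoatom P.2 hmax
    have h1 : v₁ * a * v₁⁻¹ ∈ Subgroup.centralizer ({y} : Set G) :=
      (inferInstance : ((Subgroup.centralizer ({y} : Set G)).subgroupOf P₀).Normal).conj_mem
        ⟨a, ha⟩ hay ⟨v₁, hv₁⟩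
    rw [Subgroup.mem_centralizer_singleton_iff] at h1 hay
    have e1 : y * (v₁ * a * v₁⁻¹) * y⁻¹ = v₁ * a * v₁⁻¹ := by rw [← h1, mul_inv_cancel_right]
    have e2 : y * a * y⁻¹ = a := by rw [← hay, mul_inv_cancel_right]
    show d * a = a * d
    calc d * a = v₁⁻¹ * (y * v₁ * y⁻¹) * (y * a * y⁻¹) := by rw [hd_def, e2]
      _ = v₁⁻¹ * (y * (v₁ * a * v₁⁻¹) * y⁻¹) * (y * v₁ * y⁻¹) := by group
      _ = v₁⁻¹ * (v₁ * a * v₁⁻¹) * (y * v₁ * y⁻¹) := by rw [e1]
      _ = a * d := by rw [hd_def]; group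
  have hab : ∀ a ∈ P₀, ∀ b ∈ P₀, Commute a b := by
    by_cases hA : ∀ a ∈ P₀, a ∈ Subgroup.centralizer ({y} : Set G) → ∀ b ∈ P₀,
        b ∈ Subgroup.centralizer ({y} : Set G) → Commute a b
    · intro v hv w hw
      obtain ⟨a, ha, i, hay, rfl⟩ := hgen y d hdP hdy v hv
      obtain ⟨b, hb, j, hby, rfl⟩ := hgen y d hdP hdy w hw
      exact (((hA a ha hay b hb hby).mul_right ((hdA a ha hay).symm.zpow_right j)).mul_left
        (((hdA b hb hby).zpow_left i).mul_right ((Commute.refl d).zpow_zpow i j)))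
    exfalso
    push Not at hA
    obtain ⟨a, ha, hay, b, hb, hby, hne⟩ := hA
    set g := y * a with hg
    have hle : P₀ ⊓ Subgroup.centralizer ({g} : Set G) ≤
        P₀ ⊓ Subgroup.centralizer ({y} : Set G) ⊓ Subgroup.centralizer ({a} : Set G) := by
      rintro v ⟨hv, hvg⟩
      obtain ⟨a', ha', i, ha'y, rfl⟩ := hgen y d hdP hdy v hv
      rw [Subgroup.mem_centralizer_singleton_iff] at hay ha'y
      have hay' : Commute a y := hay
      have ha'y' : Commute a' y := ha'y
      set t := (d ^ i)⁻¹ * (y * d ^ i * y⁻¹) with ht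
      have hfix : y * (a * a' * a⁻¹) * y⁻¹ = a * a' * a⁻¹ := by
        have : Commute (a * a' * a⁻¹) y :=
          ((Commute.mul_left hay' ha'y').mul_left hay'.inv_left)
        rw [← this.eq, mul_inv_cancel_right]
      have hda : a * d ^ i * a⁻¹ = d ^ i := by
        rw [← ((hdA a ha (Subgroup.mem_centralizer_singleton_iff.2 hay)).zpow_left i).eq,
          mul_inv_cancel_right]
      have key : a * a' * a⁻¹ * (y * d ^ i * y⁻¹) = a' * d ^ i := by
        calc a * a' * a⁻¹ * (y * d ^ i * y⁻¹)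
            = y * (a * a' * a⁻¹) * y⁻¹ * (y * (a * d ^ i * a⁻¹) * y⁻¹) := by rw [hfix, hda]
          _ = g * (a' * d ^ i) * g⁻¹ := by rw [hg]; group
          _ = a' * d ^ i := by
            rw [← Subgroup.mem_centralizer_singleton_iff.1 hvg, mul_inv_cancel_right]
      have hda' : Commute (d ^ i) a' :=
        (hdA a' ha' (Subgroup.mem_centralizer_singleton_iff.2 ha'y)).zpow_left i
      have htA : t = (a * a' * a⁻¹)⁻¹ * a' := by
        have h1 : y * d ^ i * y⁻¹ = (a * a' * a⁻¹)⁻¹ * (a' * d ^ i) := by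
          rw [← key, inv_mul_cancel_left]
        have hda2 : Commute (d ^ i) ((a * a' * a⁻¹)⁻¹ * a') :=
          ((((hdA a ha (Subgroup.mem_centralizer_singleton_iff.2 hay)).zpow_left i).mul_right
            hda').mul_right ((hdA a ha
              (Subgroup.mem_centralizer_singleton_iff.2 hay)).zpow_left i).inv_right).inv_right
            |>.mul_right hda'
        rw [ht, h1, ← mul_assoc ((a * a' * a⁻¹)⁻¹) a', ← mul_assoc]
        rw [hda2.inv_left.eq, mul_assoc, inv_mul_cancel, mul_one]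
      have htc : Commute y t := by
        rw [htA]
        exact (((hay'.mul_left ha'y').mul_left hay'.inv_left).inv_left
          |>.mul_left ha'y').symm
      have ht1 : t = 1 := eq_one_of_commute_coprime P.2 hy
        (P₀.mul_mem (P₀.inv_mem (P₀.zpow_mem hdP i)) (hmem y _ (P₀.zpow_mem hdP i)))
        (v := d ^ i) (by rw [ht, mul_inv_cancel_left]) htc
      have hdi : Commute (d ^ i) y := by
        have e := ht1
        rw [ht, inv_mul_eq_one, eq_mul_inv_iff_mul_eq] at e
        exact e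
      have haa : Commute a' a := by
        have e := htA ▸ ht1
        rw [inv_mul_eq_one, mul_inv_eq_iff_eq_mul] at e
        exact e.symm
      exact ⟨⟨hv, Subgroup.mem_centralizer_singleton_iff.2 (ha'y'.mul_left hdi).eq⟩,
        Subgroup.mem_centralizer_singleton_iff.2
          (haa.mul_left ((hdA a ha (Subgroup.mem_centralizer_singleton_iff.2 hay)).zpow_left i)).eq⟩
    set Cy := P₀ ⊓ Subgroup.centralizer ({y} : Set G)
    set Cg := P₀ ⊓ Subgroup.centralizer ({g} : Set G)
    have hlt : Cg < Cy := by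
      refine lt_of_le_not_ge (hle.trans inf_le_left) fun hge => ?_
      have := (hle (hge ⟨hb, hby⟩)).2
      exact hne (Subgroup.mem_centralizer_singleton_iff.1 this).symm
    have h1 : Cy.relIndex P₀ = p := by
      rw [Subgroup.inf_relIndex_left]; exact hprime y hyP
    have h2 : Cg.relIndex P₀ ∣ p := by
      rw [Subgroup.inf_relIndex_left]; exact h g
    have h3 := Subgroup.relIndex_mul_relIndex Cg Cy P₀ hlt.le inf_le_left
    rw [h1] at h3
    rw [← h3] at h2
    have h4 : Cg.relIndex Cy ∣ 1 := by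
      have := Nat.eq_zero_or_pos p
      exact (Nat.mul_dvd_mul_iff_right hp.out.pos).1 (by rwa [one_mul])
    exact hlt.not_ge (Subgroup.relIndex_eq_one.1 (Nat.dvd_one.1 h4))
  -- commutator maps
  let ψ : G → (P₀ →* G) := fun g => MonoidHom.mk' (fun v => g * (v : G) * g⁻¹ * (v : G)⁻¹)
    fun v w => by
      have hc : Commute (g * (w : G) * g⁻¹ * (w : G)⁻¹) (v : G) :=
        hab _ (P₀.mul_mem (hmem g _ w.2) (P₀.inv_mem w.2)) _ v.2
      calc g * ((v * w : P₀) : G) * g⁻¹ * ((v * w : P₀) : G)⁻¹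
          = g * (v : G) * g⁻¹ * (g * (w : G) * g⁻¹ * (w : G)⁻¹) * (v : G)⁻¹ := by
            simp only [Subgroup.coe_mul]; group
        _ = g * (v : G) * g⁻¹ * (v : G)⁻¹ * (g * (w : G) * g⁻¹ * (w : G)⁻¹) := by
            rw [mul_assoc (g * (v : G) * g⁻¹) _ (v : G)⁻¹, hc.inv_right.eq, ← mul_assoc]
  have hψ : ∀ g : G, ∀ v : P₀, ψ g v = g * (v : G) * g⁻¹ * (v : G)⁻¹ := fun _ _ => rfl
  have hψP : ∀ g : G, ∀ v : P₀, ψ g v ∈ P₀ := fun g v =>
    P₀.mul_mem (hmem g _ v.2) (P₀.inv_mem v.2)
  have hker : ∀ g : G, ∀ v : P₀, ψ g v = 1 ↔ Commute g (v : G) := by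
    intro g v
    rw [hψ, mul_inv_eq_one, mul_inv_eq_iff_eq_mul]
    rfl
  have hrange : ∀ g : G, Nat.card (ψ g).range ≤ p := by
    intro g
    rw [← Subgroup.index_ker]
    refine Nat.le_of_dvd hp.out.pos ?_
    have : (ψ g).ker = (Subgroup.centralizer ({g} : Set G)).subgroupOf P₀ := by
      ext v
      rw [MonoidHom.mem_ker, hker, Subgroup.mem_subgroupOf, Subgroup.mem_centralizer_singleton_iff]
      exact eq_comm
    rw [this]
    exact h g
  have hzp : ∀ g : G, ∀ v : P₀, ψ g v ≠ 1 → (ψ g).range = Subgroup.zpowers (ψ g v) := by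
    intro g v hv
    refine (Subgroup.eq_of_le_of_card_ge (Subgroup.zpowers_le.2 (MonoidHom.mem_range.2 ⟨v, rfl⟩)) ?_).symm
    refine (hrange g).trans ?_
    obtain ⟨k, hk⟩ := (P.2.to_le (Subgroup.zpowers_le.2 (hψP g v))).exists_card_eq
    rw [hk]
    rcases k with _ | k
    · rw [pow_zero, Nat.card_zpowers, orderOf_eq_one_iff] at hk
      exact absurd hk hv
    · exact Nat.le_self_pow (by omega) p
  set D := (ψ y).range with hD
  have hDy : ∀ e : G, y * e * y⁻¹ ∈ D → e ∈ D := by
    rintro e ⟨v, hv⟩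
    refine ⟨⟨y⁻¹ * (v : G) * y, by simpa using hmem y⁻¹ _ v.2⟩, ?_⟩
    rw [hψ] at hv ⊢
    have e' : e = y⁻¹ * (y * (v : G) * y⁻¹ * (v : G)⁻¹) * y := by rw [hv]; group
    rw [e']
    simp only
    group
  have hkey : ∀ g : G, (orderOf g).Coprime p → (ψ g).range ≤ D := by
    intro g hg
    rintro e ⟨v₂, rfl⟩
    by_contra hnot
    have hne2 : ψ g v₂ ≠ 1 := fun e => hnot (by rw [e]; exact D.one_mem)
    have hgen2 : ∀ u : P₀, ψ g u ∈ D → ψ g u = 1 := by
      intro u hu
      by_contra hu1
      refine hnot ?_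
      have : ψ g v₂ ∈ (ψ g).range := ⟨v₂, rfl⟩
      rw [hzp g u hu1] at this
      exact Subgroup.zpowers_le.2 hu this
    have hgy : ∀ v : P₀, ψ (y * g) v = y * ψ g v * y⁻¹ * ψ y v := fun v => by
      rw [hψ, hψ, hψ]; group
    -- equal kernels
    have hAB : ∀ v : P₀, ψ g v = 1 → ψ y v = 1 := by
      intro v hv
      by_contra hv'
      have hR : (ψ (y * g)).range = Subgroup.zpowers (ψ y v) := by
        rw [hzp (y * g) v (by rw [hgy, hv, mul_one, mul_inv_cancel, one_mul]; exact hv'), hgy, hv,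
          mul_one, mul_inv_cancel, one_mul]
      by_cases hv2 : ψ y v₂ = 1
      · have h1 : y * ψ g v₂ * y⁻¹ ∈ (ψ (y * g)).range :=
          ⟨v₂, by rw [hgy, hv2, mul_one]⟩
        rw [hR, ← hzp y v hv'] at h1
        exact hnot (hDy _ h1)
      · -- some element of `ker ψ_y` outside `ker ψ_g`
        have hvy : (v : G) ∉ Subgroup.centralizer ({y} : Set G) := fun hc => hv'
          ((hker y v).2 (Subgroup.mem_centralizer_singleton_iff.1 hc).symm)
        obtain ⟨a, ha, i, hay, hav⟩ := hgen y v v.2 hvy v₂ v₂.2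
        have hv₂' : v₂ = ⟨a, ha⟩ * v ^ i := Subtype.ext (by simpa using hav)
        have hga : ψ g ⟨a, ha⟩ ≠ 1 := fun e => hne2 (by rw [hv₂', map_mul, map_zpow, e, hv, one_zpow, one_mul])
        have hya : ψ y ⟨a, ha⟩ = 1 :=
          (hker y _).2 (Subgroup.mem_centralizer_singleton_iff.1 hay).symm
        have h1 : y * ψ g ⟨a, ha⟩ * y⁻¹ ∈ (ψ (y * g)).range :=
          ⟨⟨a, ha⟩, by rw [hgy, hya, mul_one]⟩
        rw [hR, ← hzp y v hv'] at h1
        exact hga (hgen2 _ (hDy _ h1))
    set δ : P₀ := ⟨d, hdP⟩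
    have hδy : ψ y δ ≠ 1 := fun e => hdy
      (Subgroup.mem_centralizer_singleton_iff.2 ((hker y δ).1 e).symm.eq)
    have hδD : d ∈ D := by
      refine ⟨⟨v₁, hv₁⟩, ?_⟩
      rw [hψ, hd_def]
      exact hab _ (hmem y v₁ hv₁) _ (P₀.inv_mem hv₁)
    have hδg : ψ g δ ≠ 1 := fun e => hδy (hAB δ e)
    have hker_eq : ∀ v : P₀, ψ y v = 1 → ψ g v = 1 := by
      intro v hv
      by_contra hv'
      have hvg : (v : G) ∉ Subgroup.centralizer ({g} : Set G) := fun hc => hv'
        ((hker g v).2 (Subgroup.mem_centralizer_singleton_iff.1 hc).symm)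
      obtain ⟨a, ha, i, hag, had⟩ := hgen g v v.2 hvg d hdP
      have hga : ψ g ⟨a, ha⟩ = 1 :=
        (hker g _).2 (Subgroup.mem_centralizer_singleton_iff.1 hag).symm
      refine hδy ?_
      rw [show δ = ⟨a, ha⟩ * v ^ i from Subtype.ext (by simpa using had), map_mul, map_zpow,
        hAB _ hga, hv, one_zpow, one_mul]
    -- write the commutator `g d g⁻¹ d⁻¹` in `A × D`
    obtain ⟨a₀, ha₀, j, ha₀y, he1⟩ := hgen y d hdP hdy (ψ g δ) (hψP g δ)
    have ha₀g : Commute g a₀ := (hker g ⟨a₀, ha₀⟩).1 (hker_eq _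
      ((hker y _).2 (Subgroup.mem_centralizer_singleton_iff.1 ha₀y).symm))
    rw [Subgroup.mem_centralizer_singleton_iff] at ha₀y
    have ha₀y' : Commute a₀ y := ha₀y
    have hda₀ : Commute d a₀ := hab _ hdP _ ha₀
    have hgd : g * d * g⁻¹ = a₀ * d ^ (j + 1) := by
      have := hψ g δ
      rw [he1] at this
      rw [zpow_add_one]
      exact (eq_mul_inv_iff_mul_eq.1 this).symm.trans (mul_assoc _ _ _)
    have hyd_mem : y * d * y⁻¹ ∈ Subgroup.zpowers d := by
      have hr : D = Subgroup.zpowers d := by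
        refine (Subgroup.eq_of_le_of_card_ge (Subgroup.zpowers_le.2 hδD) ?_).symm
        refine (hrange y).trans ?_
        obtain ⟨k, hk⟩ := (P.2.to_le (Subgroup.zpowers_le.2 hdP)).exists_card_eq
        rw [hk]
        rcases k with _ | k
        · rw [pow_zero, Nat.card_zpowers, orderOf_eq_one_iff] at hk
          exact absurd (by rw [hk]; exact Subgroup.one_mem _) hdy
        · exact Nat.le_self_pow (by omega) p
      have h1 : ψ y δ ∈ D := ⟨δ, rfl⟩
      rw [hψ] at h1
      have h2 := D.mul_mem h1 hδD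
      rw [inv_mul_cancel_right] at h2
      exact hr ▸ h2
    obtain ⟨i, hi⟩ := Subgroup.mem_zpowers_iff.1 hyd_mem
    set c := (y * g)⁻¹ * (g * y) with hc_def
    set t := a₀ ^ (i - 1) with ht
    have hyconj : ∀ m : ℤ, y * d ^ m * y⁻¹ = d ^ (i * m) := fun m => by
      rw [← conj_zpow, ← hi, zpow_mul]
    have hgconj : ∀ m : ℤ, g * d ^ m * g⁻¹ = a₀ ^ m * d ^ ((j + 1) * m) := fun m => by
      rw [← conj_zpow, hgd, ((hda₀.zpow_left (j + 1)).symm).mul_zpow, zpow_mul]
    have hya₀ : y * a₀ * y⁻¹ = a₀ := by rw [← ha₀y, mul_inv_cancel_right]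
    have hct : Commute c t := by
      have h1 : Commute g t := ha₀g.zpow_right _
      have h2 : Commute y t := ha₀y'.symm.zpow_right _
      exact ((h2.mul_left h1).inv_left).mul_left (h1.mul_left h2)
    have hcd : c * d * c⁻¹ = d * t := by
      have hT : Commute (y * g) t :=
        (ha₀y'.symm.zpow_right (i - 1)).mul_left (ha₀g.zpow_right (i - 1))
      have e1 : g * y * d * (g * y)⁻¹ = a₀ ^ i * d ^ ((j + 1) * i) := by
        rw [← hgconj i, hi]; group
      have e2 : y * g * d * (y * g)⁻¹ = a₀ * d ^ (i * (j + 1)) := by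
        rw [← hyconj (j + 1), ← hya₀, show y * g * d * (y * g)⁻¹ = y * (g * d * g⁻¹) * y⁻¹ by group,
          hgd, hya₀]
        conv_rhs => rw [← hya₀]
        group
      have e3 : g * y * d * (g * y)⁻¹ = y * g * (d * t) * (y * g)⁻¹ := by
        have e5 : y * g * (d * t) * (y * g)⁻¹ =
            y * g * d * (y * g)⁻¹ * ((y * g) * t * (y * g)⁻¹) := by group
        rw [e5, e2, hT.eq, mul_inv_cancel_right, e1, ht, mul_assoc a₀,
          ((hda₀.zpow_left (i * (j + 1))).zpow_right (i - 1)).eq, ← mul_assoc, ← zpow_one_add,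
          show 1 + (i - 1) = i by ring, mul_comm (j + 1) i]
      calc c * d * c⁻¹ = (y * g)⁻¹ * (g * y * d * (g * y)⁻¹) * (y * g) := by rw [hc_def]; group
        _ = (y * g)⁻¹ * (y * g * (d * t) * (y * g)⁻¹) * (y * g) := by rw [e3]
        _ = d * t := by group
    obtain ⟨u, c', hu, hc', hcc⟩ := hsplit c
    have hc'fix : ∀ z ∈ P₀, c' * z * c'⁻¹ = c * z * c⁻¹ := by
      intro z hz
      have := hab u hu _ (hmem c' z hz)
      rw [← hcc, show u * c' * z * (u * c')⁻¹ = u * (c' * z * c'⁻¹) * u⁻¹ by group, this.eq,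
        mul_inv_cancel_right]
    have htP : t ∈ P₀ := P₀.zpow_mem ha₀ _
    have ht1 : t = 1 := eq_one_of_commute_coprime P.2 hc' htP (v := d)
      ((hc'fix d hdP).trans hcd) (by
        have := hc'fix t htP
        rw [hct.eq, mul_inv_cancel_right, mul_inv_eq_iff_eq_mul] at this
        exact this)
    have ha₀ne : a₀ ≠ 1 := fun e0 => by
      refine hδg (hgen2 δ ?_)
      rw [he1, e0, one_mul]
      exact D.zpow_mem hδD j
    -- `a₀` has order `p`
    have hord : ∀ z ∈ (ψ g).range, z ^ p = 1 := fun z hz => by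
      obtain ⟨k, hk⟩ := (P.2.to_le (show (ψ g).range ≤ P₀ by
        rintro _ ⟨w, rfl⟩; exact hψP g w)).exists_card_eq
      have hk1 : k ≤ 1 := (Nat.pow_le_pow_iff_right hp.out.one_lt).1
        (by rw [← hk, pow_one]; exact hrange g)
      have := orderOf_dvd_iff_pow_eq_one.1
        (((Subgroup.orderOf_dvd_natCard _ hz).trans hk.dvd).trans (pow_dvd_pow p hk1))
      rwa [pow_one] at this
    have hdord : d ^ p = 1 := by
      obtain ⟨k, hk⟩ := (P.2.to_le (show D ≤ P₀ by
        rintro _ ⟨w, rfl⟩; exact hψP y w)).exists_card_eq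
      have hk1 : k ≤ 1 := (Nat.pow_le_pow_iff_right hp.out.one_lt).1
        (by rw [← hk, pow_one]; exact hrange y)
      have := orderOf_dvd_iff_pow_eq_one.1
        (((Subgroup.orderOf_dvd_natCard _ hδD).trans hk.dvd).trans (pow_dvd_pow p hk1))
      rwa [pow_one] at this
    have ha₀p : a₀ ^ p = 1 := by
      have h5 := hord (ψ g δ) ⟨δ, rfl⟩
      rw [he1, ((hda₀.zpow_left j).symm).mul_pow, ← zpow_natCast (d ^ j), ← zpow_mul, mul_comm,
        zpow_mul, zpow_natCast, hdord, one_zpow, mul_one] at h5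
      exact h5
    have hdvd : (p : ℤ) ∣ i - 1 := by
      have := orderOf_dvd_iff_zpow_eq_one.2 (show a₀ ^ (i - 1) = 1 from ht1)
      rwa [orderOf_eq_prime ha₀p ha₀ne] at this
    obtain ⟨m, hm⟩ := hdvd
    refine hdy (Subgroup.mem_centralizer_singleton_iff.2 ?_)
    have e4 : y * d * y⁻¹ = d := by
      rw [← hi, show i = 1 + (p : ℤ) * m by omega, zpow_add, zpow_one, zpow_mul, zpow_natCast,
        hdord, one_zpow, mul_one]
    rw [mul_inv_eq_iff_eq_mul] at e4
    exact e4.symm
  refine le_trans (Subgroup.card_le_of_le (Subgroup.commutator_le.2 fun v hv g _ => ?_)) (hrange y)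
  obtain ⟨u, w, hu, hw, rfl⟩ := hsplit g
  have hconjw : Commute u (w * v⁻¹ * w⁻¹) := hab u hu _ (hmem w _ (P₀.inv_mem hv))
  have e : ⁅v, u * w⁆ = ψ w ⟨v⁻¹, P₀.inv_mem hv⟩ := by
    rw [hψ, inv_inv, (hab _ (hmem w _ (P₀.inv_mem hv)) v hv).eq]
    calc ⁅v, u * w⁆ = v * (u * (w * v⁻¹ * w⁻¹) * u⁻¹) := by rw [commutatorElement_def]; group
      _ = v * (w * v⁻¹ * w⁻¹) := by rw [hconjw.eq, mul_inv_cancel_right]
  rw [e]
  exact hkey w hw ⟨_, rfl⟩

/-- In a solvable group with square-free class sizes a Sylow subgroup meets the derived subgroup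
in a group of order at most `p`. -/
theorem card_sylow_inf_commutator_le {G : Type u} [Group G] [Finite G] {p : ℕ}
    [hp : Fact p.Prime] (h : ∀ g : G, Squarefree (Subgroup.centralizer ({g} : Set G)).index)
    (P : Sylow p G) : Nat.card ↥((P : Subgroup G) ⊓ commutator G) ≤ p := by
  classical
  haveI := isSolvable_of_squarefree_classes h
  set Q := pPrimeCore p G with hQ
  set f := QuotientGroup.mk' Q with hf
  have hsurj : Function.Surjective f := QuotientGroup.mk'_surjective Q
  -- the hypothesis passes to the quotient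
  have hbar : ∀ x : G ⧸ Q, Squarefree (Subgroup.centralizer ({x} : Set (G ⧸ Q))).index := by
    intro x
    obtain ⟨g, rfl⟩ := hsurj x
    have hle : (Subgroup.centralizer ({g} : Set G)).map f ≤
        Subgroup.centralizer ({f g} : Set (G ⧸ Q)) := by
      rintro _ ⟨c, hc, rfl⟩
      rw [Subgroup.mem_centralizer_singleton_iff, ← map_mul, ← map_mul,
        Subgroup.mem_centralizer_singleton_iff.1 hc]
    exact (h g).squarefree_of_dvd ((Subgroup.index_dvd_of_le hle).trans
      (Subgroup.index_map_dvd _ hsurj))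
  have hnd : ∀ x : G ⧸ Q, ¬ p ^ 2 ∣ (Subgroup.centralizer ({x} : Set (G ⧸ Q))).index :=
    fun x hd => hp.out.ne_one (Nat.isUnit_iff.1 (hbar x p (by rwa [← sq])))
  set P' : Sylow p (G ⧸ Q) := P.mapSurjective hsurj with hP'
  set U := pCore p (G ⧸ Q) with hU
  have hO : pPrimeCore p (G ⧸ Q) = ⊥ := Cores.pPrimeCore_quotient_pPrimeCore p
  haveI : Group.IsSolvable (G ⧸ Q) := Group.isSolvable_of_surjective hsurj
  have hCU : Subgroup.centralizer (U : Set (G ⧸ Q)) ≤ U := by
    have hF : fittingSubgroup (G ⧸ Q) ≤ U := by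
      refine (Cores.le_iSup_pCore Cores.isNilpotent_fittingSubgroup).trans (iSup_le fun r => ?_)
      haveI hr : Fact (r : ℕ).Prime := ⟨Nat.prime_of_mem_primeFactors r.2⟩
      by_cases hrp : (r : ℕ) = p
      · rw [hrp]
      · obtain ⟨k, hk⟩ := (Cores.isPGroup_pCore (r : ℕ) (G ⧸ Q)).exists_card_eq
        refine le_trans (Cores.le_pPrimeCore (p := p) ?_) (hO.le.trans bot_le)
        rw [hk]
        exact ((Nat.coprime_primes hr.out hp.out).2 hrp).pow_left k
    exact le_trans (Subgroup.centralizer_le hF) (Cores.centralizer_fittingSubgroup_le.trans hF)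
  set Φ := (frattini (P' : Subgroup (G ⧸ Q))).map (P' : Subgroup (G ⧸ Q)).subtype with hΦ
  have hΦc : Φ ≤ Subgroup.center (G ⧸ Q) := frattini_sylow_le_center hnd P'
  haveI : Φ.Normal := ⟨fun a ha g => by
    rw [Subgroup.mem_center_iff.1 (hΦc ha) g, mul_inv_cancel_right]; exact ha⟩
  -- the automorphisms centralizing `U` modulo `Φ`
  let π := QuotientGroup.mk' Φ
  set S := (Subgroup.centralizer ((U.map π : Subgroup ((G ⧸ Q) ⧸ Φ)) : Set ((G ⧸ Q) ⧸ Φ))).comap π
    with hS
  haveI hUn : (U.map π).Normal :=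
    (inferInstance : U.Normal).map π (QuotientGroup.mk'_surjective Φ)
  haveI hSn : S.Normal := Subgroup.Normal.comap inferInstance π
  have hPS : (P' : Subgroup (G ⧸ Q)) ≤ S := by
    intro x hx
    refine Subgroup.mem_centralizer_iff.2 ?_
    rintro _ ⟨u, hu, rfl⟩
    rw [← commutatorElement_eq_one_iff_mul_comm, ← map_commutatorElement]
    refine (QuotientGroup.eq_one_iff _).2 ?_
    exact ⟨_, CfsgLib.PGroups.commutatorElement_mem_frattini P'.2
      ⟨u, Cores.pCore_le_sylow P' hu⟩ ⟨x, hx⟩, rfl⟩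
  have hSp : IsPGroup p S := by
    intro g
    obtain ⟨e, he⟩ := exists_pow_coprime_orderOf (p := p) (isOfFinOrder_of_finite (g : G ⧸ Q))
    refine ⟨e, Subtype.ext ?_⟩
    rw [SubgroupClass.coe_pow, OneMemClass.coe_one]
    set w := (g : G ⧸ Q) ^ p ^ e with hw
    have hwS : w ∈ S := S.pow_mem g.2 _
    have hwC : w ∈ Subgroup.centralizer (U : Set (G ⧸ Q)) := by
      refine Subgroup.mem_centralizer_iff.2 fun u hu => ?_
      have h1 : π (u⁻¹ * (w * u * w⁻¹)) = 1 := by
        have := Subgroup.mem_centralizer_iff.1 hwS (π u) ⟨u, hu, rfl⟩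
        rw [map_mul, map_mul, map_mul, map_inv, map_inv, ← this, mul_inv_cancel_right,
          inv_mul_cancel]
      have h2 : u⁻¹ * (w * u * w⁻¹) ∈ Φ := (QuotientGroup.eq_one_iff _).1 h1
      have h3 := eq_one_of_commute_coprime P'.2 he (v := u)
        (Subgroup.map_subtype_le _ h2) (by rw [mul_inv_cancel_left])
        (Subgroup.mem_center_iff.1 (hΦc h2) w)
      rw [inv_mul_eq_one, eq_mul_inv_iff_mul_eq] at h3
      exact h3
    have hwU := hCU hwC
    obtain ⟨k, hk⟩ := Cores.isPGroup_pCore p (G ⧸ Q) ⟨w, hwU⟩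
    exact orderOf_eq_one_iff.1 (Nat.eq_one_of_dvd_coprimes (he.pow_right k) dvd_rfl
      (orderOf_dvd_of_pow_eq_one (congrArg Subtype.val hk)))
  have hPU : (P' : Subgroup (G ⧸ Q)) = U :=
    le_antisymm (hPS.trans (Cores.le_pCore hSp)) (Cores.pCore_le_sylow P')
  haveI hP'n : (P' : Subgroup (G ⧸ Q)).Normal := by rw [hPU]; infer_instance
  have hrel : ∀ x : G ⧸ Q,
      (Subgroup.centralizer ({x} : Set (G ⧸ Q))).relIndex (P' : Subgroup (G ⧸ Q)) ∣ p := by
    intro x
    set C := Subgroup.centralizer ({x} : Set (G ⧸ Q))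
    obtain ⟨j, hj⟩ := P'.2.index (C.subgroupOf (P' : Subgroup (G ⧸ Q)))
    have hd : C.relIndex (P' : Subgroup (G ⧸ Q)) ∣ C.index := by
      rw [← relIndex_normal_sup_eq _ (le_refl C)]
      exact ⟨_, (Subgroup.relIndex_mul_index le_sup_right).symm⟩
    rw [Subgroup.relIndex] at hd ⊢
    rw [hj] at hd ⊢
    rcases j with _ | _ | j
    · simp
    · simp
    · exact absurd ((pow_dvd_pow p (by omega)).trans hd) (hnd x)
  have hbound := card_commutator_le P' hrel
  -- the commutator subgroup meets the Sylow subgroup in `[P, G]`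
  set K := ⁅(P' : Subgroup (G ⧸ Q)), (⊤ : Subgroup (G ⧸ Q))⁆ with hK
  obtain ⟨H, hH⟩ := Subgroup.exists_right_complement'_of_coprime
    (N := (P' : Subgroup (G ⧸ Q))) P'.card_coprime_index
  haveI : K.Normal := Subgroup.commutator_normal _ _
  set ρ := QuotientGroup.mk' K with hρ
  have hcent : ∀ v ∈ (P' : Subgroup (G ⧸ Q)), ∀ z, ρ v * z = z * ρ v := by
    intro v hv z
    obtain ⟨z, rfl⟩ := QuotientGroup.mk'_surjective K z
    rw [← commutatorElement_eq_one_iff_mul_comm, ← map_commutatorElement]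
    exact (QuotientGroup.eq_one_iff _).2
      (Subgroup.commutator_mem_commutator hv (Subgroup.mem_top z))
  have hcomm : (commutator (G ⧸ Q)).map ρ ≤ H.map ρ := by
    rw [commutator_def, Subgroup.map_commutator, Subgroup.commutator_le]
    rintro _ ⟨a, -, rfl⟩ _ ⟨b, -, rfl⟩
    obtain ⟨⟨⟨u, hu⟩, ⟨x, hx⟩⟩, rfl⟩ := hH.2 a
    obtain ⟨⟨⟨w, hw⟩, ⟨y, hy⟩⟩, rfl⟩ := hH.2 b
    simp only [map_mul]
    refine ⟨⁅x, y⁆, ?_, ?_⟩
    · rw [commutatorElement_def]
      exact H.mul_mem (H.mul_mem (H.mul_mem hx hy) (H.inv_mem hx)) (H.inv_mem hy)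
    · rw [map_commutatorElement, commutatorElement_def, commutatorElement_def, mul_inv_rev,
        mul_inv_rev]
      have hw' := hcent w hw
      calc ρ x * ρ y * (ρ x)⁻¹ * (ρ y)⁻¹
          = ρ x * ρ y * (ρ x)⁻¹ * (ρ y)⁻¹ * (ρ u * (ρ u)⁻¹) * (ρ w * (ρ w)⁻¹) := by group
        _ = ρ u * ρ x * (ρ w * ρ y) * ((ρ x)⁻¹ * (ρ u)⁻¹) * ((ρ y)⁻¹ * (ρ w)⁻¹) := by
            have hu' := hcent u hu
            have e1 : ∀ a b : (G ⧸ Q) ⧸ K, ρ w * a * b = a * (ρ w * b) := fun a b => by
              rw [hw', mul_assoc]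
            calc ρ x * ρ y * (ρ x)⁻¹ * (ρ y)⁻¹ * (ρ u * (ρ u)⁻¹) * (ρ w * (ρ w)⁻¹)
                = ρ x * ρ y * (ρ x)⁻¹ * (ρ u * (ρ u)⁻¹) * (ρ w * (ρ y)⁻¹ * (ρ w)⁻¹) := by
                  rw [hw' (ρ y)⁻¹]; group
              _ = ρ x * ρ y * (ρ u * (ρ x)⁻¹ * (ρ u)⁻¹) * (ρ w * (ρ y)⁻¹ * (ρ w)⁻¹) := by
                  rw [hu' (ρ x)⁻¹]; group
              _ = ρ u * (ρ x * ρ y) * ((ρ x)⁻¹ * (ρ u)⁻¹) * (ρ w * ((ρ y)⁻¹ * (ρ w)⁻¹)) := by
                  rw [hu' (ρ x * ρ y)]; group
              _ = ρ u * (ρ x * (ρ w * ρ y)) * ((ρ x)⁻¹ * (ρ u)⁻¹) * ((ρ y)⁻¹ * (ρ w)⁻¹) := by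
                  rw [show ρ u * (ρ x * ρ y) * ((ρ x)⁻¹ * (ρ u)⁻¹) *
                    (ρ w * ((ρ y)⁻¹ * (ρ w)⁻¹)) = ρ u * ρ x * (ρ y * ((ρ x)⁻¹ * (ρ u)⁻¹) * ρ w) *
                      ((ρ y)⁻¹ * (ρ w)⁻¹) by group, ← hw', ← mul_assoc (ρ w)]
                  group
              _ = _ := by group
  have hinf : (P' : Subgroup (G ⧸ Q)) ⊓ commutator (G ⧸ Q) ≤ K := by
    rintro v ⟨hv, hvc⟩
    obtain ⟨x, hx, hxv⟩ := hcomm (Subgroup.mem_map_of_mem ρ hvc)
    have h1 : orderOf (ρ v) ∣ Nat.card H := by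
      rw [← hxv]; exact (orderOf_map_dvd ρ x).trans (Subgroup.orderOf_dvd_natCard _ hx)
    have h2 : orderOf (ρ v) ∣ Nat.card (P' : Subgroup (G ⧸ Q)) :=
      (orderOf_map_dvd ρ v).trans (Subgroup.orderOf_dvd_natCard _ hv)
    refine (QuotientGroup.eq_one_iff v).1 (orderOf_eq_one_iff.1
      (Nat.eq_one_of_dvd_coprimes ?_ h2 h1))
    rw [← hH.symm.index_eq_card]
    exact P'.card_coprime_index
  refine le_trans ?_ hbound
  refine Nat.card_le_card_of_injective (fun z => (⟨f z, hinf ⟨?_, ?_⟩⟩ : K)) fun a b hab => ?_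
  · rw [hP', Sylow.coe_mapSurjective]
    exact Subgroup.mem_map_of_mem f z.2.1
  · have := Subgroup.mem_map_of_mem f z.2.2
    have e : (commutator G).map f = commutator (G ⧸ Q) := by
      rw [commutator_def, Subgroup.map_commutator, ← MonoidHom.range_eq_map,
        MonoidHom.range_eq_top.2 hsurj, commutator_def]
    exact e.le this
  · have h1 : (a : G)⁻¹ * b ∈ Q := QuotientGroup.eq.1 (congrArg Subtype.val hab)
    have h2 : (a : G)⁻¹ * b ∈ (P : Subgroup G) :=
      (P : Subgroup G).mul_mem ((P : Subgroup G).inv_mem a.2.1) b.2.1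
    refine Subtype.ext (inv_mul_eq_one.1 ?_)
    obtain ⟨k, hk⟩ := P.2 ⟨_, h2⟩
    exact orderOf_eq_one_iff.1 (Nat.eq_one_of_dvd_coprimes
      ((Cores.card_pPrimeCore_coprime p).pow_right k) (Subgroup.orderOf_dvd_natCard _ h1)
      (orderOf_dvd_of_pow_eq_one (congrArg Subtype.val hk)))

/-- Square-free class sizes: the derived subgroup is cyclic of square-free order. -/
theorem isCyclic_commutator_of_squarefree_classes {G : Type u} [Group G] [Finite G]
    (h : ∀ g : G, Squarefree (Subgroup.centralizer ({g} : Set G)).index) :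
    IsCyclic (commutator G) ∧ Squarefree (Nat.card (commutator G)) := by
  have hsq : Squarefree (Nat.card (commutator G)) := by
    rw [Nat.squarefree_iff_factorization_le_one Nat.card_pos.ne']
    intro p
    by_cases hpp : p.Prime
    swap
    · simp [Nat.factorization_eq_zero_of_not_prime _ hpp]
    haveI : Fact p.Prime := ⟨hpp⟩
    obtain ⟨R⟩ : Nonempty (Sylow p (commutator G)) := inferInstance
    obtain ⟨P, hP⟩ := (R.2.map (commutator G).subtype).exists_le_sylow
    have h1 := card_sylow_inf_commutator_le h P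
    have h2 : Nat.card R ≤ p := by
      refine le_trans ?_ h1
      refine le_trans (le_of_eq (Nat.card_congr (Subgroup.equivMapOfInjective _ _
        (commutator G).subtype_injective).toEquiv)) (Subgroup.card_le_of_le
          (le_inf hP (Subgroup.map_subtype_le _)))
    rw [R.card_eq_multiplicity] at h2
    exact (Nat.pow_le_pow_iff_right hpp.one_lt).1 (by rwa [pow_one])
  refine ⟨?_, hsq⟩
  set D := commutator G
  haveI : IsZGroup D := IsZGroup.of_squarefree hsq
  haveI hcyc : IsCyclic (commutator D) := IsZGroup.isCyclic_commutator D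
  -- the second derived subgroup is central in the first
  have hcen : commutator D ≤ Subgroup.center D := by
    set E := (commutator D).map D.subtype with hE
    haveI : E.Normal := by
      rw [hE, Subgroup.map_subtype_commutator]; infer_instance
    haveI : IsCyclic E := isCyclic_of_surjective _
      (Subgroup.equivMapOfInjective (commutator D) D.subtype D.subtype_injective).surjective
    let ψ : G →* MulAut E := MulAut.conjNormal
    letI : CommGroup (MulAut E) :=
      ((IsCyclic.mulAutMulEquiv E).toMonoidHom).commGroupOfInjective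
        (IsCyclic.mulAutMulEquiv E).injective
    have hker : D ≤ ψ.ker := Abelianization.commutator_subset_ker ψ
    intro e he
    rw [Subgroup.mem_center_iff]
    intro x
    refine Subtype.ext ?_
    have h1 := congrArg (fun φ : MulAut E => ((φ ⟨(e : G), ⟨e, he, rfl⟩⟩ : E) : G))
      (MonoidHom.mem_ker.1 (hker x.2))
    simp only [ψ, MulAut.conjNormal_apply, MulAut.one_apply] at h1
    show (x : G) * e = e * x
    rw [mul_inv_eq_iff_eq_mul] at h1
    exact h1
  haveI : Group.IsNilpotent D := Group.isNilpotent_top.1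
    (CfsgLib.Cores.isNilpotent_of_commutator_le_centralizer (D := (⊤ : Subgroup D)) (by
      rw [← commutator_def]
      exact hcen.trans (Subgroup.center_le_centralizer _)))
  infer_instance

/-- A finite abelian group is supersolvable. -/
theorem isSupersolvable_of_comm {G : Type u} [Group G] [Finite G]
    (hc : ∀ a b : G, a * b = b * a) : Cfsg.IsSupersolvable G := by
  induction hn : Nat.card G using Nat.strong_induction_on generalizing G with
  | _ n ih =>
    subst hn
    rcases subsingleton_or_nontrivial G with _ | _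
    · exact CfsgLib.Supersolvable.of_subsingleton
    obtain ⟨g, hg⟩ := exists_ne (1 : G)
    haveI : (Subgroup.zpowers g).Normal := ⟨fun a ha b => by
      rw [hc b a, mul_inv_cancel_right]; exact ha⟩
    refine CfsgLib.Supersolvable.of_quotient_cyclic (Subgroup.zpowers g) (ih _ ?_ ?_ rfl)
    · rw [Subgroup.card_eq_card_quotient_mul_card_subgroup (Subgroup.zpowers g)]
      exact lt_mul_of_one_lt_right Nat.card_pos ((Subgroup.one_lt_card_iff_ne_bot _).2
        fun e => hg (Subgroup.mem_bot.1 (e ▸ Subgroup.mem_zpowers g)))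
    · rintro ⟨a⟩ ⟨b⟩
      exact congrArg QuotientGroup.mk (hc a b)

/-- Groups with square-free class sizes (Chillag–Herzog). -/
theorem structure_of_squarefree_classes {G : Type u} [Group G] [Finite G]
    (h : ∀ g : G, Squarefree (Subgroup.centralizer ({g} : Set G)).index) :
    Cfsg.IsSupersolvable G ∧
    (∀ _h : (Cfsg.fittingSubgroup G).Normal,
      IsCyclic (G ⧸ Cfsg.fittingSubgroup G) ∧ Squarefree (Cfsg.fittingSubgroup G).index) ∧
    IsCyclic (commutator G) ∧ Squarefree (Nat.card (commutator G)) ∧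
    Subgroup.upperCentralSeries ↥(Cfsg.fittingSubgroup G) 2 = ⊤ ∧
    commutator ↥(commutator G) = ⊥ := by
  obtain ⟨hcyc, hsq⟩ := isCyclic_commutator_of_squarefree_classes h
  haveI := hcyc
  set D := commutator G with hD
  have hDab : ∀ a ∈ D, ∀ b ∈ D, a * b = b * a := fun a ha b hb => by
    letI := IsCyclic.commGroup (α := D)
    exact congrArg Subtype.val (mul_comm (⟨a, ha⟩ : D) ⟨b, hb⟩)
  obtain ⟨c, hc⟩ := isCyclic_iff_exists_zpowers_eq_top.1 hcyc
  have hDc : D = Subgroup.zpowers (c : G) := by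
    have := congrArg (Subgroup.map D.subtype) hc
    rwa [MonoidHom.map_zpowers, ← MonoidHom.range_eq_map, D.range_subtype, eq_comm] at this
  set C := Subgroup.centralizer ({(c : G)} : Set G) with hC
  have hCD : C = Subgroup.centralizer (D : Set G) := by
    refine le_antisymm (fun x hx => Subgroup.mem_centralizer_iff.2 fun z hz => ?_)
      (Subgroup.centralizer_le (Set.singleton_subset_iff.2 c.2))
    rw [hDc] at hz
    obtain ⟨i, rfl⟩ := Subgroup.mem_zpowers_iff.1 hz
    exact ((Commute.zpow_right (show Commute x (c : G) from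
      Subgroup.mem_centralizer_singleton_iff.1 hx) i).eq).symm
  have hDC : D ≤ C := fun a ha => Subgroup.mem_centralizer_singleton_iff.2 (hDab a ha c c.2)
  haveI hCn : C.Normal := by rw [hCD]; infer_instance
  have hCnil : Group.IsNilpotent C := by
    refine CfsgLib.Cores.isNilpotent_of_commutator_le_centralizer ?_
    refine le_trans (show ⁅C, C⁆ ≤ D from Subgroup.commutator_mono le_top le_top) ?_
    rw [Subgroup.le_centralizer_iff, hCD]
  have hCF : C ≤ fittingSubgroup G := CfsgLib.Cores.le_fittingSubgroup hCnil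
  refine ⟨?_, fun hFn => ?_, hcyc, hsq, ?_, ?_⟩
  · refine CfsgLib.Supersolvable.of_quotient_cyclic D (isSupersolvable_of_comm ?_)
    rintro ⟨a⟩ ⟨b⟩
    show (QuotientGroup.mk' D a) * QuotientGroup.mk' D b =
      QuotientGroup.mk' D b * QuotientGroup.mk' D a
    rw [← commutatorElement_eq_one_iff_mul_comm, ← map_commutatorElement]
    exact (QuotientGroup.eq_one_iff _).2
      (Subgroup.commutator_mem_commutator (Subgroup.mem_top a) (Subgroup.mem_top b))
  · have hidx : Squarefree (fittingSubgroup G).index :=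
      (h (c : G)).squarefree_of_dvd (Subgroup.index_dvd_of_le hCF)
    refine ⟨?_, hidx⟩
    haveI : IsZGroup (G ⧸ fittingSubgroup G) :=
      IsZGroup.of_squarefree (by rw [← Subgroup.index_eq_card]; exact hidx)
    haveI : Group.IsNilpotent (G ⧸ fittingSubgroup G) := by
      letI : CommGroup (G ⧸ fittingSubgroup G) :=
        { (inferInstance : Group (G ⧸ fittingSubgroup G)) with
          mul_comm := by
            rintro ⟨a⟩ ⟨b⟩
            show (QuotientGroup.mk' (fittingSubgroup G) a) *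
              QuotientGroup.mk' (fittingSubgroup G) b =
              QuotientGroup.mk' (fittingSubgroup G) b * QuotientGroup.mk' (fittingSubgroup G) a
            rw [← commutatorElement_eq_one_iff_mul_comm, ← map_commutatorElement]
            exact (QuotientGroup.eq_one_iff _).2 (hDC.trans hCF
              (Subgroup.commutator_mem_commutator (Subgroup.mem_top a) (Subgroup.mem_top b))) }
      exact CommGroup.isNilpotent
    infer_instance
  · set F := fittingSubgroup G with hF
    haveI hFn : Group.IsNilpotent F := CfsgLib.Cores.isNilpotent_fittingSubgroup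
    haveI hDn : (D.subgroupOf F).Normal := Subgroup.normal_subgroupOf
    set N := D.subgroupOf F with hN
    have hDF : D ≤ F := hDC.trans hCF
    -- `D` is central in `F`
    have hNc : N ≤ Subgroup.center F := by
      set Z := N ⊓ Subgroup.center F with hZ
      have hcardN : Nat.card N = Nat.card D :=
        Nat.card_congr (Subgroup.subgroupOfEquivOfLe hDF).toEquiv
      have hdvd : ∀ q : ℕ, q.Prime → q ∣ Nat.card N → q ∣ Nat.card Z := by
        intro q hq hqd
        haveI : Fact q.Prime := ⟨hq⟩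
        haveI : IsCyclic N :=
          isCyclic_of_surjective _ (Subgroup.subgroupOfEquivOfLe hDF).symm.surjective
        obtain ⟨z, hz⟩ := exists_prime_orderOf_dvd_card' (G := N) q hqd
        set W := (Subgroup.zpowers z).map N.subtype
        haveI : W.Normal := ⟨fun w hw g => by
          obtain ⟨w', hw', rfl⟩ := hw
          obtain ⟨n₀, hn₀⟩ := IsCyclic.exists_generator (α := N)
          obtain ⟨k, hk⟩ := Subgroup.mem_zpowers_iff.1
            (hn₀ ⟨g * (n₀ : F) * g⁻¹, hDn.conj_mem _ n₀.2 g⟩)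
          obtain ⟨i, hi⟩ := Subgroup.mem_zpowers_iff.1 (hn₀ w')
          refine ⟨w' ^ k, (Subgroup.zpowers z).zpow_mem hw' k, ?_⟩
          have hk' : ((n₀ : F)) ^ k = g * (n₀ : F) * g⁻¹ := by
            simpa using congrArg Subtype.val hk
          rw [← hi]
          simp only [Subgroup.coe_subtype, SubgroupClass.coe_zpow]
          rw [← zpow_mul, mul_comm, zpow_mul, hk', conj_zpow]⟩
        have hWcard : Nat.card W = q := by
          rw [← Nat.card_congr (Subgroup.equivMapOfInjective _ _ N.subtype_injective).toEquiv,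
            Nat.card_zpowers, hz]
        have hWc : W ≤ Subgroup.center F := by
          have hne : W ≠ ⊥ := by
            intro e; rw [e, Subgroup.card_bot] at hWcard; exact hq.ne_one hWcard.symm
          haveI : Nontrivial W := (Subgroup.nontrivial_iff_ne_bot W).2 hne
          have hne2 : W ⊓ Subgroup.center F ≠ ⊥ :=
            CfsgLib.PSolvable.inf_center_ne_bot hne
          have : W ⊓ Subgroup.center F = W := by
            refine Subgroup.eq_of_le_of_card_ge inf_le_left ?_
            rw [hWcard]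
            refine Nat.le_of_dvd Nat.card_pos ?_
            have h1 := Subgroup.card_dvd_of_le (inf_le_left : W ⊓ Subgroup.center F ≤ W)
            rw [hWcard] at h1
            rcases (Nat.dvd_prime hq).1 h1 with h2 | h2
            · exact absurd (Subgroup.eq_bot_of_card_eq _ h2) hne2
            · rw [h2]
          exact this ▸ inf_le_right
        rw [← hWcard]
        exact Subgroup.card_dvd_of_le (le_inf (Subgroup.map_subtype_le _) hWc)
      have hcard : Nat.card N ∣ Nat.card Z := by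
        have hsqN : Squarefree (Nat.card N) := hcardN ▸ hsq
        rw [← Nat.prod_primeFactors_of_squarefree hsqN]
        exact Finset.prod_primes_dvd _ (fun q hq => (Nat.prime_of_mem_primeFactors hq).prime)
          fun q hq => hdvd q (Nat.prime_of_mem_primeFactors hq) (Nat.dvd_of_mem_primeFactors hq)
      have : Z = N := Subgroup.eq_of_le_of_card_ge inf_le_left (Nat.le_of_dvd Nat.card_pos hcard)
      exact this ▸ inf_le_right
    rw [eq_top_iff]
    intro x _
    rw [Subgroup.mem_upperCentralSeries_succ_iff]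
    intro y
    rw [Subgroup.upperCentralSeries_one]
    exact hNc (Subgroup.commutator_mem_commutator (Subgroup.mem_top _) (Subgroup.mem_top _))
  · letI := IsCyclic.commGroup (α := D)
    rw [commutator_def, Subgroup.commutator_eq_bot_iff_le_centralizer]
    intro a _
    exact Subgroup.mem_centralizer_iff.2 fun b _ => mul_comm b a

end CfsgLib.Frobenius
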